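/-
Tools for Weil's extension theorem: regularity, density, gluing of morphisms to separated schemes.
-/
import Groth.Agent.L23.SourceRegular
import Groth.Agent.L03.GeomRegular
import Groth.Agent.L01.Regular
import Mathlib.AlgebraicGeometry.Morphisms.UniversallyOpen
import Mathlib.AlgebraicGeometry.Morphisms.Smooth
import Mathlib.AlgebraicGeometry.Fiber
import Mathlib.RingTheory.RegularLocalRing.Defs
import Mathlib.CategoryTheory.Monoidal.Cartesian.Over
import Mathlib.CategoryTheory.Monoidal.Cartesian.Grp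

set_option autoImplicit false
set_option linter.style.haveILetI false

open CategoryTheory CategoryTheory.Limits AlgebraicGeometry MonObj

universe u

namespace Groth.L26.Weil

variable {S X G : Scheme.{u}}

/-- Stalks of schemes smooth over the spectrum of a regular ring are regular. -/
theorem regular_stalk {R : Type u} [CommRing R] [IsRegularRing R] {F : Scheme.{u}}
    (q : F ⟶ Spec (CommRingCat.of R)) [Smooth q] (z : F) : IsRegularLocalRing (F.presheaf.stalk z) := by
  obtain ⟨_, ⟨W, hW, rfl⟩, hzW, -⟩ := F.isBasis_affineOpens.exists_subset_of_mem_open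
    (Set.mem_univ z) isOpen_univ
  have hsm : (q.appLE ⊤ W le_top).hom.Smooth :=
    HasRingHomProperty.appLE @Smooth q ‹_› ⟨⊤, isAffineOpen_top _⟩ ⟨W, hW⟩ le_top
  let φ : R →+* Γ(F, W) := ((Scheme.ΓSpecIso (CommRingCat.of R)).inv ≫ q.appLE ⊤ W le_top).hom
  have hφ : φ.Smooth := RingHom.Smooth.respectsIso.2 _
    (Scheme.ΓSpecIso (CommRingCat.of R)).symm.commRingCatIsoToRingEquiv hsm
  letI := φ.toAlgebra
  haveI : Algebra.Smooth R Γ(F, W) := RingHom.smooth_algebraMap.mp hφ
  haveI := Groth.L03.GeomRegular.isRegularRing_of_smooth R Γ(F, W)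
  letI := F.presheaf.algebra_section_stalk ⟨z, hzW⟩
  haveI := hW.isLocalization_stalk ⟨z, hzW⟩
  haveI := IsRegularRing.isRegularLocalRing_localization (hW.primeIdealOf ⟨z, hzW⟩).asIdeal
  exact IsRegularLocalRing.of_ringEquiv (R := Localization.AtPrime (hW.primeIdealOf ⟨z, hzW⟩).asIdeal)
    (IsLocalization.algEquiv (hW.primeIdealOf ⟨z, hzW⟩).asIdeal.primeCompl _ _).toRingEquiv

theorem isReduced_of_regular_stalks (h : ∀ x : X, IsRegularLocalRing (X.presheaf.stalk x)) :
    IsReduced X := by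
  haveI : ∀ x : X, _root_.IsReduced (X.presheaf.stalk x) := fun x => by
    haveI := h x
    haveI := Groth.L01.isDomain_of_regular (X.presheaf.stalk x)
    infer_instance
  exact isReduced_of_isReduced_stalk X

/-- `U` is dense in each fibre. -/
def FibrewiseDense (pX : X ⟶ S) (U : X.Opens) : Prop :=
  ∀ x : X, x ∈ closure ((U : Set X) ∩ {y | pX y = pX x})

theorem FibrewiseDense.dense {pX : X ⟶ S} {U : X.Opens} (h : FibrewiseDense pX U) :
    Dense (U : Set X) :=
  fun x => closure_mono Set.inter_subset_left (h x)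

theorem FibrewiseDense.mono {pX : X ⟶ S} {U V : X.Opens} (h : FibrewiseDense pX U) (hUV : U ≤ V) :
    FibrewiseDense pX V :=
  fun x => closure_mono (Set.inter_subset_inter_left _ hUV) (h x)

theorem fibrewiseDense_of_dense [Subsingleton S] {pX : X ⟶ S} {U : X.Opens}
    (h : Dense (U : Set X)) : FibrewiseDense pX U := fun x => by
  have : ((U : Set X) ∩ {y | pX y = pX x}) = U :=
    Set.inter_eq_left.mpr fun y _ => Subsingleton.elim _ _
  rw [this]
  exact h x

/-- The open of pairs in `U`. -/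
noncomputable def UU (pX : X ⟶ S) (U : X.Opens) : (pullback pX pX).Opens :=
  pullback.fst pX pX ⁻¹ᵁ U ⊓ pullback.snd pX pX ⁻¹ᵁ U

theorem dense_UU {pX : X ⟶ S} [UniversallyOpen pX] {U : X.Opens} (h : FibrewiseDense pX U) :
    Dense (UU pX U : Set ↥(pullback pX pX)) := by
  rw [dense_iff_inter_open]
  rintro N hN ⟨z, hz⟩
  have ho1 : IsOpenMap ⇑(pullback.fst pX pX) := (pullback.fst pX pX).isOpenMap
  have ho2 : IsOpenMap ⇑(pullback.snd pX pX) := (pullback.snd pX pX).isOpenMap
  have hcond : ∀ w, pX (pullback.fst pX pX w) = pX (pullback.snd pX pX w) := fun w => by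
    rw [← Scheme.Hom.comp_apply, pullback.condition, Scheme.Hom.comp_apply]
  obtain ⟨_, ⟨z', hz'N, rfl⟩, hz'U, hs⟩ := mem_closure_iff.mp (h (pullback.fst pX pX z)) _
    (ho1 N hN) ⟨z, hz, rfl⟩
  obtain ⟨_, ⟨z'', ⟨hz''N, hz''1⟩, rfl⟩, hz''U, -⟩ := mem_closure_iff.mp (h (pullback.snd pX pX z')) _
    (ho2 (N ∩ (pullback.fst pX pX ⁻¹ᵁ U : (pullback pX pX).Opens))
      (hN.inter (pullback.fst pX pX ⁻¹ᵁ U).2)) ⟨z', ⟨hz'N, hz'U⟩, rfl⟩
  exact ⟨z'', hz''N, hz''1, hz''U⟩

/-- An open neighbourhood of a diagonal point meets `{x} × U`. -/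
theorem exists_mem_fibre {pX : X ⟶ S} {U : X.Opens} (h : FibrewiseDense pX U) (x : X)
    (N : (pullback pX pX).Opens) (hx : pullback.lift (𝟙 X) (𝟙 X) rfl x ∈ N) :
    ∃ z ∈ N, pullback.fst pX pX z = x ∧ pullback.snd pX pX z ∈ U := by
  let s := pX x
  let c : Spec (X.residueField x) ⟶ Spec (S.residueField s) := Spec.map (pX.residueFieldMap x)
  let ιs := S.fromSpecResidueField s
  have hc : c ≫ ιs = X.fromSpecResidueField x ≫ pX :=
    pX.SpecMap_residueFieldMap_fromSpecResidueField x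
  let Fx := pullback c (pullback.snd pX ιs)
  let g : Fx ⟶ pullback pX ιs := pullback.snd _ _
  have hg : IsOpenMap ⇑g := by
    haveI : UniversallyOpen c := inferInstance
    exact (pullback.snd c (pullback.snd pX ιs)).isOpenMap
  let j : Fx ⟶ pullback pX pX := pullback.lift (pullback.fst _ _ ≫ X.fromSpecResidueField x)
    (g ≫ pullback.fst pX ιs) (by
      have h1 : pullback.fst c (pullback.snd pX ιs) ≫ c = g ≫ pullback.snd pX ιs := pullback.condition
      rw [Category.assoc, Category.assoc, ← hc, ← Category.assoc, h1, Category.assoc,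
        ← pullback.condition])
  let t : Spec (X.residueField x) ⟶ pullback pX ιs :=
    pullback.lift (X.fromSpecResidueField x) c hc.symm
  let z₀ : Spec (X.residueField x) ⟶ Fx := pullback.lift (𝟙 _) t
    (by rw [Category.id_comp]; exact (pullback.lift_snd _ _ _).symm)
  have hz₀ : z₀ ≫ j = X.fromSpecResidueField x ≫ pullback.lift (𝟙 X) (𝟙 X) rfl := by
    apply pullback.hom_ext
    · rw [Category.assoc, Category.assoc, pullback.lift_fst, pullback.lift_fst, Category.comp_id]
      exact (reassoc_of% (pullback.lift_fst (𝟙 _) t _)) (X.fromSpecResidueField x)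
    · rw [Category.assoc, Category.assoc, pullback.lift_snd, pullback.lift_snd, Category.comp_id]
      exact ((reassoc_of% (pullback.lift_snd (𝟙 _) t _)) (pullback.fst pX ιs)).trans
        (pullback.lift_fst _ _ _)
  let N' : (pX.fiber s).Opens := ⟨g '' (j ⁻¹ᵁ N : Fx.Opens), hg _ (j ⁻¹ᵁ N).2⟩
  let p₀ : Spec (X.residueField x) := default
  have hmem : g (z₀ p₀) ∈ N' := by
    refine ⟨z₀ p₀, ?_, rfl⟩
    show j (z₀ p₀) ∈ N
    rw [← Scheme.Hom.comp_apply, hz₀, Scheme.Hom.comp_apply, Scheme.fromSpecResidueField_apply]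
    exact hx
  obtain ⟨W, hW, hWN⟩ := (pX.fiberι s).isEmbedding.isOpen_iff.mp N'.2
  have hp : pullback.fst pX ιs (g (z₀ p₀)) = x := by
    have e1 : z₀ ≫ g ≫ pullback.fst pX ιs = X.fromSpecResidueField x :=
      ((reassoc_of% (pullback.lift_snd (𝟙 _) t _)) (pullback.fst pX ιs)).trans
        (pullback.lift_fst _ _ _)
    rw [← Scheme.Hom.comp_apply, ← Scheme.Hom.comp_apply]
    exact (congr($e1 p₀)).trans (X.fromSpecResidueField_apply x p₀)
  have hxW : x ∈ W := by
    rw [← hp]
    show g (z₀ p₀) ∈ (pX.fiberι s) ⁻¹' W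
    rw [hWN]
    exact hmem
  obtain ⟨y, hyW, hyU, hys⟩ := mem_closure_iff.mp (h x) W hW hxW
  obtain ⟨w, hw⟩ : y ∈ Set.range (pX.fiberι s) := by
    rw [Scheme.Hom.range_fiberι]
    exact hys
  have hwN : w ∈ (N' : Set _) := by
    have hw' : w ∈ ⇑(pX.fiberι s) ⁻¹' W := by
      rw [Set.mem_preimage, hw]
      exact hyW
    exact hWN.subset hw'
  obtain ⟨f, hfN, hfw⟩ := hwN
  refine ⟨j f, hfN, ?_, ?_⟩
  · rw [← Scheme.Hom.comp_apply, pullback.lift_fst, Scheme.Hom.comp_apply,
      Scheme.fromSpecResidueField_apply]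
  · rw [← Scheme.Hom.comp_apply, pullback.lift_snd, Scheme.Hom.comp_apply, hfw]
    show pX.fiberι s w ∈ U
    rwa [hw]

/-- Preimages of dense sets under open maps are dense. -/
theorem dense_preimage {Y : Scheme.{u}} (f : Y ⟶ X) [UniversallyOpen f] {U : X.Opens}
    (h : Dense (U : Set X)) : Dense (f ⁻¹ᵁ U : Set Y) :=
  h.preimage f.isOpenMap

/-- Morphisms into a separated scheme from a reduced one which agree on a dense open are equal. -/
theorem ext_dense {Y : Scheme.{u}} [IsReduced X] (pG : G ⟶ Y) [IsSeparated pG] {g g' : X ⟶ G}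
    (h : g ≫ pG = g' ≫ pG) {U : X.Opens} (hU : Dense (U : Set X)) (h' : U.ι ≫ g = U.ι ≫ g') :
    g = g' := by
  haveI : IsDominant U.ι := ⟨by rw [DenseRange, Scheme.Opens.range_ι]; exact hU⟩
  exact ext_of_isDominant_of_isSeparated pG h U.ι h'

/-- The same, on an open subscheme. -/
theorem ext_dense_opens {Y : Scheme.{u}} [IsReduced X] (pG : G ⟶ Y) [IsSeparated pG] {V : X.Opens}
    {g g' : (V : Scheme.{u}) ⟶ G} (h : g ≫ pG = g' ≫ pG) {U : X.Opens} (hU : Dense (U : Set X))
    (h' : X.homOfLE (inf_le_right : U ⊓ V ≤ V) ≫ g = X.homOfLE (inf_le_right : U ⊓ V ≤ V) ≫ g') :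
    g = g' := by
  haveI : IsDominant (X.homOfLE (inf_le_right : U ⊓ V ≤ V)) := ⟨by
    intro v
    rw [mem_closure_iff]
    rintro O hO hvO
    obtain ⟨w, hwO, hwU⟩ := hU.inter_open_nonempty _ (V.isOpenEmbedding'.isOpenMap O hO)
      ⟨v.1, v, hvO, rfl⟩
    obtain ⟨w', hw', rfl⟩ := hwO
    exact ⟨w', hw', ⟨w'.1, ⟨hwU, w'.2⟩⟩, Subtype.ext (by simp)⟩⟩
  exact ext_of_isDominant_of_isSeparated pG h _ h'

end Groth.L26.Weil
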