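/-
Weil's extension theorem, first half: if `(x, y) ↦ f x / f y` is defined at `(x₀, x₀)`, then `f` is
defined at `x₀`; gluing of the local extensions.
-/
import Groth.Agent.L26.Weil.Basic
import Mathlib.AlgebraicGeometry.Sites.Fpqc
import Mathlib.AlgebraicGeometry.Gluing

set_option autoImplicit false
set_option linter.style.haveILetI false
set_option backward.isDefEq.respectTransparency.types false

open CategoryTheory CategoryTheory.Limits AlgebraicGeometry MonObj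

universe u

namespace Groth.L26.Weil

variable {S X G : Scheme.{u}}

/-- The morphism `f`, given on `U`, extends to a neighbourhood of `x`. -/
def DefinedAt (pX : X ⟶ S) (pG : G ⟶ S) (U : X.Opens) (f : (U : Scheme.{u}) ⟶ G) (x : X) : Prop :=
  ∃ (V : X.Opens) (g : (V : Scheme.{u}) ⟶ G), x ∈ V ∧ g ≫ pG = V.ι ≫ pX ∧
    X.homOfLE (inf_le_right : U ⊓ V ≤ V) ≫ g = X.homOfLE (inf_le_left : U ⊓ V ≤ U) ≫ f

theorem definedAt_of_mem (pX : X ⟶ S) (pG : G ⟶ S) (U : X.Opens) (f : (U : Scheme.{u}) ⟶ G)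
    (hf : f ≫ pG = U.ι ≫ pX) {x : X} (hx : x ∈ U) : DefinedAt pX pG U f x :=
  ⟨U, f, hx, hf, by congr 1⟩

/-- A map given on a dense open and defined everywhere extends uniquely. -/
theorem existsUnique_extension [IsReduced X] (pX : X ⟶ S) (pG : G ⟶ S) [IsSeparated pG]
    (U : X.Opens) (hU : Dense (U : Set X)) (f : (U : Scheme.{u}) ⟶ G) (hf : f ≫ pG = U.ι ≫ pX)
    (h : ∀ x, DefinedAt pX pG U f x) :
    ∃! g : X ⟶ G, g ≫ pG = pX ∧ U.ι ≫ g = f := by
  choose V g hxV hg hagree using h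
  let 𝒰 : X.OpenCover := X.openCoverOfIsOpenCover V
    (eq_top_iff.mpr fun x _ => TopologicalSpace.Opens.mem_iSup.mpr ⟨x, hxV x⟩)
  have hc : ∀ a b : X, X.homOfLE (inf_le_left : V a ⊓ V b ≤ V a) ≫ g a =
      X.homOfLE (inf_le_right : V a ⊓ V b ≤ V b) ≫ g b := fun a b => by
    refine ext_dense_opens pG ?_ hU ?_
    · rw [Category.assoc, Category.assoc, hg a, hg b, Scheme.homOfLE_ι_assoc, Scheme.homOfLE_ι_assoc]
    · have ha := congrArg (fun φ => X.homOfLE (le_inf inf_le_left (inf_le_right.trans inf_le_left) :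
        U ⊓ (V a ⊓ V b) ≤ U ⊓ V a) ≫ φ) (hagree a)
      have hb := congrArg (fun φ => X.homOfLE (le_inf inf_le_left (inf_le_right.trans inf_le_right) :
        U ⊓ (V a ⊓ V b) ≤ U ⊓ V b) ≫ φ) (hagree b)
      simp only [Scheme.homOfLE_homOfLE_assoc] at ha hb
      rw [Scheme.homOfLE_homOfLE_assoc, Scheme.homOfLE_homOfLE_assoc, ha, hb]
  let F : X ⟶ G := 𝒰.glueMorphisms g fun a b => by
    have hab := hc a b
    have hP := isPullback_opens_inf (V a) (V b)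
    refine (cancel_epi hP.isoPullback.hom).mp ?_
    exact ((reassoc_of% hP.isoPullback_hom_fst) (g a)).trans
      (hab.trans ((reassoc_of% hP.isoPullback_hom_snd) (g b)).symm)
  have hF : ∀ a, (V a).ι ≫ F = g a := fun a => Scheme.Cover.ι_glueMorphisms 𝒰 g _ a
  refine ⟨F, ⟨Scheme.Cover.hom_ext 𝒰 _ _ fun a => ?_, ?_⟩, ?_⟩
  · show (V a).ι ≫ F ≫ pG = (V a).ι ≫ pX
    rw [← Category.assoc, hF, hg]
  · refine Scheme.Cover.hom_ext (U.toScheme.openCoverOfIsOpenCover (fun a => U.ι ⁻¹ᵁ (V a))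
      (eq_top_iff.mpr fun z _ =>
        TopologicalSpace.Opens.mem_iSup.mpr ⟨z.1, hxV z.1⟩)) _ _ fun a => ?_
    let r : ((U.ι ⁻¹ᵁ V a : U.toScheme.Opens) : Scheme.{u}) ⟶ ((U ⊓ V a : X.Opens) : Scheme.{u}) :=
      IsOpenImmersion.lift (U ⊓ V a).ι ((U.ι ⁻¹ᵁ V a).ι ≫ U.ι) (by
        rw [Scheme.Opens.range_ι]
        rintro _ ⟨t, rfl⟩
        exact ⟨(((U.ι ⁻¹ᵁ V a).ι t)).2, t.2⟩)
    have hr : r ≫ X.homOfLE (inf_le_left : U ⊓ V a ≤ U) = (U.ι ⁻¹ᵁ V a).ι := by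
      rw [← cancel_mono U.ι, Category.assoc, Scheme.homOfLE_ι, IsOpenImmersion.lift_fac]
    show (U.ι ⁻¹ᵁ V a).ι ≫ U.ι ≫ F = (U.ι ⁻¹ᵁ V a).ι ≫ f
    rw [← hr, Category.assoc, Category.assoc, Scheme.homOfLE_ι_assoc]
    congr 1
    rw [← hagree a, ← Scheme.homOfLE_ι_assoc X (inf_le_right : U ⊓ V a ≤ V a) F, hF]
  · rintro F' ⟨hF'1, hF'2⟩
    refine ext_dense pG ?_ hU ?_
    · rw [hF'1]
      exact (Scheme.Cover.hom_ext 𝒰 _ _ fun a => by
        show (V a).ι ≫ F ≫ pG = (V a).ι ≫ pX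
        rw [← Category.assoc, hF, hg]).symm
    · rw [hF'2]
      refine Scheme.Cover.hom_ext (U.toScheme.openCoverOfIsOpenCover (fun a => U.ι ⁻¹ᵁ (V a))
        (eq_top_iff.mpr fun z _ =>
          TopologicalSpace.Opens.mem_iSup.mpr ⟨z.1, hxV z.1⟩)) _ _ fun a => ?_
      let r : ((U.ι ⁻¹ᵁ V a : U.toScheme.Opens) : Scheme.{u}) ⟶ ((U ⊓ V a : X.Opens) : Scheme.{u}) :=
        IsOpenImmersion.lift (U ⊓ V a).ι ((U.ι ⁻¹ᵁ V a).ι ≫ U.ι) (by
          rw [Scheme.Opens.range_ι]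
          rintro _ ⟨t, rfl⟩
          exact ⟨(((U.ι ⁻¹ᵁ V a).ι t)).2, t.2⟩)
      have hr : r ≫ X.homOfLE (inf_le_left : U ⊓ V a ≤ U) = (U.ι ⁻¹ᵁ V a).ι := by
        rw [← cancel_mono U.ι, Category.assoc, Scheme.homOfLE_ι, IsOpenImmersion.lift_fac]
      show (U.ι ⁻¹ᵁ V a).ι ≫ f = (U.ι ⁻¹ᵁ V a).ι ≫ U.ι ≫ F
      rw [← hr, Category.assoc, Category.assoc, Scheme.homOfLE_ι_assoc]
      congr 1
      rw [← hagree a, ← Scheme.homOfLE_ι_assoc X (inf_le_right : U ⊓ V a ≤ V a) F, hF]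

variable {pX : X ⟶ S} {pG : G ⟶ S} [GrpObj (Over.mk pG)]

omit [GrpObj (Over.mk pG)] in
/-- An element of the group of points on `T`. -/
abbrev pt {T : Scheme.{u}} {q : T ⟶ S} (g : T ⟶ G) (h : g ≫ pG = q) : Over.mk q ⟶ Over.mk pG :=
  Over.homMk g h

theorem left_mul {T T' : Scheme.{u}} {q : T ⟶ S} {q' : T' ⟶ S} (r : T' ⟶ T) (hq : r ≫ q = q')
    (a b : Over.mk q ⟶ Over.mk pG) (a' b' : Over.mk q' ⟶ Over.mk pG)
    (ha : r ≫ a.left = a'.left) (hb : r ≫ b.left = b'.left) :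
    r ≫ (a * b).left = (a' * b').left := by
  let ρ : Over.mk q' ⟶ Over.mk q := Over.homMk r hq
  have ha' : ρ ≫ a = a' := Over.OverMorphism.ext ha
  have hb' : ρ ≫ b = b' := Over.OverMorphism.ext hb
  rw [← ha', ← hb', ← MonObj.comp_mul]
  rfl

theorem left_div {T T' : Scheme.{u}} {q : T ⟶ S} {q' : T' ⟶ S} (r : T' ⟶ T) (hq : r ≫ q = q')
    (a b : Over.mk q ⟶ Over.mk pG) (a' b' : Over.mk q' ⟶ Over.mk pG)
    (ha : r ≫ a.left = a'.left) (hb : r ≫ b.left = b'.left) :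
    r ≫ (a / b).left = (a' / b').left := by
  let ρ : Over.mk q' ⟶ Over.mk q := Over.homMk r hq
  have ha' : ρ ≫ a = a' := Over.OverMorphism.ext ha
  have hb' : ρ ≫ b = b' := Over.OverMorphism.ext hb
  rw [← ha', ← hb', div_eq_mul_inv, div_eq_mul_inv, ← GrpObj.comp_inv, ← MonObj.comp_mul]
  rfl

variable (pX) in
/-- The structure map of `X ×_S X`. -/
noncomputable abbrev pP : pullback pX pX ⟶ S := pullback.fst pX pX ≫ pX

variable {U : X.Opens}

variable (pX U) in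
noncomputable def pr₁ : (UU pX U : Scheme.{u}) ⟶ (U : Scheme.{u}) :=
  IsOpenImmersion.lift U.ι ((UU pX U).ι ≫ pullback.fst pX pX) (by
    rw [Scheme.Opens.range_ι]
    rintro _ ⟨t, rfl⟩
    exact t.2.1)

variable (pX U) in
noncomputable def pr₂ : (UU pX U : Scheme.{u}) ⟶ (U : Scheme.{u}) :=
  IsOpenImmersion.lift U.ι ((UU pX U).ι ≫ pullback.snd pX pX) (by
    rw [Scheme.Opens.range_ι]
    rintro _ ⟨t, rfl⟩
    exact t.2.2)

omit [GrpObj (Over.mk pG)] in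
@[reassoc]
theorem pr₁_ι : pr₁ pX U ≫ U.ι = (UU pX U).ι ≫ pullback.fst pX pX := IsOpenImmersion.lift_fac _ _ _

omit [GrpObj (Over.mk pG)] in
@[reassoc]
theorem pr₂_ι : pr₂ pX U ≫ U.ι = (UU pX U).ι ≫ pullback.snd pX pX := IsOpenImmersion.lift_fac _ _ _

/-- The difference map `(x, y) ↦ f x / f y`. -/
noncomputable def diffMap (f : (U : Scheme.{u}) ⟶ G) (hf : f ≫ pG = U.ι ≫ pX) :
    (UU pX U : Scheme.{u}) ⟶ G :=
  (pt (pG := pG) (q := (UU pX U).ι ≫ pP pX) (pr₁ pX U ≫ f)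
      (by rw [Category.assoc, hf, pr₁_ι_assoc]) /
    pt (pG := pG) (q := (UU pX U).ι ≫ pP pX) (pr₂ pX U ≫ f)
      (by rw [Category.assoc, hf, pr₂_ι_assoc]; exact congrArg _ pullback.condition.symm)).left

theorem diffMap_w (f : (U : Scheme.{u}) ⟶ G) (hf : f ≫ pG = U.ι ≫ pX) :
    diffMap f hf ≫ pG = (UU pX U).ι ≫ pP pX :=
  Over.w (_ : Over.mk ((UU pX U).ι ≫ pP pX) ⟶ Over.mk pG)

variable [Smooth pX] [IsSeparated pG]

/-- If the difference map is defined at `(x, x)` then the map is defined at `x`. -/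
theorem definedAt_of_diffMap [IsReduced (pullback pX pX)] (hU : FibrewiseDense pX U)
    (f : (U : Scheme.{u}) ⟶ G) (hf : f ≫ pG = U.ι ≫ pX) (x : X)
    (h : DefinedAt (pP pX) pG (UU pX U) (diffMap f hf) (pullback.lift (𝟙 X) (𝟙 X) rfl x)) :
    DefinedAt pX pG U f x := by
  obtain ⟨W₀, ψ, hxW₀, hψ, hag⟩ := h
  obtain ⟨z, hzW₀, hz1, hz2⟩ := exists_mem_fibre hU x W₀ hxW₀
  let W : (pullback pX pX).Opens := W₀ ⊓ pullback.snd pX pX ⁻¹ᵁ U
  let qW : (W : Scheme.{u}) ⟶ S := W.ι ≫ pP pX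
  let s₂ : (W : Scheme.{u}) ⟶ (U : Scheme.{u}) :=
    IsOpenImmersion.lift U.ι (W.ι ≫ pullback.snd pX pX) (by
      rw [Scheme.Opens.range_ι]
      rintro _ ⟨t, rfl⟩
      exact t.2.2)
  have hs₂ : s₂ ≫ U.ι = W.ι ≫ pullback.snd pX pX := IsOpenImmersion.lift_fac _ _ _
  let F₀ : Over.mk qW ⟶ Over.mk pG :=
    pt (pG := pG) (q := qW) ((pullback pX pX).homOfLE (inf_le_left : W ≤ W₀) ≫ ψ)
        (by rw [Category.assoc, hψ, Scheme.homOfLE_ι_assoc]) *
      pt (pG := pG) (q := qW) (s₂ ≫ f) (by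
        rw [Category.assoc, hf, reassoc_of% hs₂]
        simp only [qW, pP, pullback.condition])
  let F : (W : Scheme.{u}) ⟶ G := F₀.left
  have hF : F ≫ pG = qW := Over.w F₀
  -- on the pairs in `U`, the map is `f` of the first coordinate
  let D : (pullback pX pX).Opens := UU pX U ⊓ W
  let d₁ : (D : Scheme.{u}) ⟶ (U : Scheme.{u}) :=
    (pullback pX pX).homOfLE (inf_le_left : D ≤ UU pX U) ≫ pr₁ pX U
  let d₂ : (D : Scheme.{u}) ⟶ (U : Scheme.{u}) :=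
    (pullback pX pX).homOfLE (inf_le_left : D ≤ UU pX U) ≫ pr₂ pX U
  have hd₁ : d₁ ≫ U.ι = D.ι ≫ pullback.fst pX pX := by
    rw [Category.assoc, pr₁_ι, Scheme.homOfLE_ι_assoc]
  have hd₂ : d₂ ≫ U.ι = D.ι ≫ pullback.snd pX pX := by
    rw [Category.assoc, pr₂_ι, Scheme.homOfLE_ι_assoc]
  let A₁ : Over.mk (D.ι ≫ pP pX) ⟶ Over.mk pG := pt (d₁ ≫ f) (by
    rw [Category.assoc, hf, reassoc_of% hd₁])
  let A₂ : Over.mk (D.ι ≫ pP pX) ⟶ Over.mk pG := pt (d₂ ≫ f) (by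
    rw [Category.assoc, hf, reassoc_of% hd₂]
    simp only [pP, pullback.condition])
  have hFD : (pullback pX pX).homOfLE (inf_le_right : D ≤ W) ≫ F = d₁ ≫ f := by
    have h1 : (pullback pX pX).homOfLE (inf_le_right : D ≤ W) ≫
        (pullback pX pX).homOfLE (inf_le_left : W ≤ W₀) ≫ ψ = (A₁ / A₂).left := by
      rw [Scheme.homOfLE_homOfLE_assoc]
      have e := congrArg (fun φ => (pullback pX pX).homOfLE
        (le_inf inf_le_left (inf_le_right.trans inf_le_left) : D ≤ UU pX U ⊓ W₀) ≫ φ) hag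
      simp only [Scheme.homOfLE_homOfLE_assoc] at e
      rw [e]
      exact left_div _ (by rw [Scheme.homOfLE_ι_assoc]) _ _ A₁ A₂ (Category.assoc _ _ _).symm
        (Category.assoc _ _ _).symm
    have h2 : (pullback pX pX).homOfLE (inf_le_right : D ≤ W) ≫ s₂ ≫ f = d₂ ≫ f := by
      rw [← Category.assoc]
      congr 1
      rw [← cancel_mono U.ι, Category.assoc, hs₂, hd₂, Scheme.homOfLE_ι_assoc]
    refine (left_mul _ (by rw [Scheme.homOfLE_ι_assoc]) _ _ (A₁ / A₂) A₂ h1 h2).trans ?_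
    rw [div_mul_cancel]
    rfl
  -- descend along the first projection
  haveI : Smooth (W.ι ≫ pullback.fst pX pX) := inferInstance
  let V : X.Opens := ⟨Set.range (W.ι ≫ pullback.fst pX pX),
    (W.ι ≫ pullback.fst pX pX).isOpenMap.isOpen_range⟩
  let r : (W : Scheme.{u}) ⟶ (V : Scheme.{u}) :=
    IsOpenImmersion.lift V.ι (W.ι ≫ pullback.fst pX pX) (by rw [Scheme.Opens.range_ι]; rfl)
  have hr : r ≫ V.ι = W.ι ≫ pullback.fst pX pX := IsOpenImmersion.lift_fac _ _ _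
  haveI : Smooth r := by
    have : Smooth (r ≫ V.ι) := by rw [hr]; infer_instance
    exact MorphismProperty.of_postcomp (W := @Smooth) (W' := @IsOpenImmersion) r V.ι inferInstance this
  haveI : Surjective r := ⟨fun v => by
    obtain ⟨w, hw⟩ := v.2
    refine ⟨w, Subtype.ext ?_⟩
    rw [← hw, ← hr]
    rfl⟩
  haveI : IsReduced (pullback r r) :=
    haveI : IsReduced (W : Scheme.{u}) := isReduced_of_isOpenImmersion W.ι
    Groth.L23.isReduced_of_smooth (pullback.fst r r)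
  have hker : pullback.fst r r ≫ F = pullback.snd r r ≫ F := by
    have hqq : pullback.fst r r ≫ qW = pullback.snd r r ≫ qW := by
      simp only [qW, pP]
      rw [← reassoc_of% hr, ← Category.assoc, pullback.condition, Category.assoc]
    let E : (pullback r r).Opens := pullback.fst r r ⁻¹ᵁ (W.ι ⁻¹ᵁ UU pX U) ⊓
      pullback.snd r r ⁻¹ᵁ (W.ι ⁻¹ᵁ UU pX U)
    have hd : Dense (W.ι ⁻¹ᵁ UU pX U : Set ↥(W : Scheme.{u})) := dense_preimage W.ι (dense_UU hU)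
    have hE : Dense (E : Set ↥(pullback r r)) :=
      (dense_preimage (pullback.fst r r) hd).inter_of_isOpen_left
        (dense_preimage (pullback.snd r r) hd) (pullback.fst r r ⁻¹ᵁ (W.ι ⁻¹ᵁ UU pX U)).2
    refine ext_dense pG ?_ hE ?_
    · rw [Category.assoc, Category.assoc, hF, hqq]
    · let e : ∀ p : pullback r r ⟶ (W : Scheme.{u}), (∀ t ∈ E, (W.ι (p t)) ∈ UU pX U) →
          ∃ a : (E : Scheme.{u}) ⟶ (D : Scheme.{u}),
            a ≫ (pullback pX pX).homOfLE (inf_le_right : D ≤ W) = E.ι ≫ p := fun p hp =>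
        ⟨IsOpenImmersion.lift ((pullback pX pX).homOfLE (inf_le_right : D ≤ W)) (E.ι ≫ p) (by
          rintro _ ⟨t, rfl⟩
          exact ⟨⟨_, hp t.1 t.2, (p t.1).2⟩, Subtype.ext (by simp)⟩), IsOpenImmersion.lift_fac _ _ _⟩
      obtain ⟨a, ha⟩ := e (pullback.fst r r) fun t ht => ht.1
      obtain ⟨b, hb⟩ := e (pullback.snd r r) fun t ht => ht.2
      have hab : a ≫ d₁ = b ≫ d₁ := by
        rw [← cancel_mono U.ι, Category.assoc a d₁, Category.assoc b d₁, hd₁,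
          ← Scheme.homOfLE_ι_assoc (pullback pX pX) (inf_le_right : D ≤ W), reassoc_of% ha,
          reassoc_of% hb, ← hr, ← Category.assoc (pullback.fst r r), pullback.condition,
          Category.assoc]
      rw [← reassoc_of% ha, ← reassoc_of% hb, hFD, reassoc_of% hab]
  let g : (V : Scheme.{u}) ⟶ G := EffectiveEpi.desc r F fun g₁ g₂ hg => by
    have := congrArg (fun φ => pullback.lift g₁ g₂ hg ≫ φ) hker
    simpa only [pullback.lift_fst_assoc, pullback.lift_snd_assoc] using this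
  have hg : r ≫ g = F := EffectiveEpi.fac r F _
  refine ⟨V, g, ⟨⟨z, hzW₀, hz2⟩, by rw [Scheme.Hom.comp_apply]; exact hz1⟩, ?_, ?_⟩
  · rw [← cancel_epi r, ← Category.assoc, hg, hF, reassoc_of% hr]
  · let W₁ : (pullback pX pX).Opens := D
    let r' : (D : Scheme.{u}) ⟶ ((U ⊓ V : X.Opens) : Scheme.{u}) :=
      IsOpenImmersion.lift (U ⊓ V).ι (D.ι ≫ pullback.fst pX pX) (by
        rw [Scheme.Opens.range_ι]
        rintro _ ⟨t, rfl⟩
        exact ⟨t.2.1.1, ⟨⟨t.1, t.2.2⟩, rfl⟩⟩)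
    have hr' : r' ≫ (U ⊓ V).ι = D.ι ≫ pullback.fst pX pX := IsOpenImmersion.lift_fac _ _ _
    haveI : Smooth (D.ι ≫ pullback.fst pX pX) := inferInstance
    haveI : Smooth r' := by
      have : Smooth (r' ≫ (U ⊓ V).ι) := by rw [hr']; infer_instance
      exact MorphismProperty.of_postcomp (W := @Smooth) (W' := @IsOpenImmersion) r' (U ⊓ V).ι
        inferInstance this
    haveI : Surjective r' := ⟨fun v => by
      obtain ⟨w, hw⟩ := v.2.2
      have hw1 : pullback.fst pX pX w.1 = v.1 := by rw [← hw]; rfl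
      refine ⟨⟨w.1, ⟨?_, w.2.2⟩, w.2⟩, Subtype.ext ?_⟩
      · show pullback.fst pX pX w.1 ∈ U
        rw [hw1]
        exact v.2.1
      · exact (congr($hr' ⟨w.1, _⟩)).trans hw1⟩
    rw [← cancel_epi r', ← Category.assoc, ← Category.assoc]
    have e1 : r' ≫ X.homOfLE (inf_le_right : U ⊓ V ≤ V) =
        (pullback pX pX).homOfLE (inf_le_right : D ≤ W) ≫ r := by
      rw [← cancel_mono V.ι, Category.assoc, Category.assoc, Scheme.homOfLE_ι, hr, hr',
        Scheme.homOfLE_ι_assoc]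
    have e2 : r' ≫ X.homOfLE (inf_le_left : U ⊓ V ≤ U) = d₁ := by
      rw [← cancel_mono U.ι, Category.assoc, Scheme.homOfLE_ι, hr', hd₁]
    rw [e1, e2, Category.assoc, hg, hFD]

end Groth.L26.Weil
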