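/-
Weil's extension theorem: a rational map from a regular scheme into a separated group scheme is
defined at a point as soon as it is defined at the codimension one points specializing to it.
-/
import Groth.Agent.L26.Weil.Descent
import Groth.Agent.L10.RegularUFD
import Groth.Agent.L18.ExtendCodimOne
import Groth.Agent.S2821
import Mathlib.RingTheory.Localization.NumDen
import Mathlib.RingTheory.Ideal.KrullsHeightTheorem
import Mathlib.AlgebraicGeometry.SpreadingOut

set_option autoImplicit false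
set_option linter.style.haveILetI false
set_option backward.isDefEq.respectTransparency.types false

open CategoryTheory CategoryTheory.Limits AlgebraicGeometry MonObj

universe u

namespace Groth.L26.Weil

variable {S X G : Scheme.{u}} {pX : X ⟶ S} {pG : G ⟶ S} [GrpObj (Over.mk pG)] {U : X.Opens}

/-- The unit section. -/
noncomputable def unitSec (pG : G ⟶ S) [GrpObj (Over.mk pG)] : S ⟶ G := (η[Over.mk pG]).left

omit [GrpObj (Over.mk pG)] in
variable (pX) in
/-- The diagonal. -/
noncomputable abbrev Δ : X ⟶ pullback pX pX := pullback.lift (𝟙 X) (𝟙 X) rfl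

theorem diffMap_diag (f : (U : Scheme.{u}) ⟶ G) (hf : f ≫ pG = U.ι ≫ pX) (y : X) (hy : y ∈ U) :
    ∃ hm : Δ pX y ∈ UU pX U, diffMap f hf ⟨Δ pX y, hm⟩ = unitSec pG (pX y) := by
  have hmem : ∀ t : (U : Scheme.{u}), Δ pX t.1 ∈ UU pX U := fun t => by
    have h1 : pullback.fst pX pX (Δ pX t.1) = t.1 := by
      rw [← Scheme.Hom.comp_apply, pullback.lift_fst]
      rfl
    have h2 : pullback.snd pX pX (Δ pX t.1) = t.1 := by
      rw [← Scheme.Hom.comp_apply, pullback.lift_snd]
      rfl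
    exact ⟨show pullback.fst pX pX (Δ pX t.1) ∈ U by rw [h1]; exact t.2,
      show pullback.snd pX pX (Δ pX t.1) ∈ U by rw [h2]; exact t.2⟩
  let δ : (U : Scheme.{u}) ⟶ (UU pX U : Scheme.{u}) :=
    IsOpenImmersion.lift (UU pX U).ι (U.ι ≫ Δ pX) (by
      rw [Scheme.Opens.range_ι]
      rintro _ ⟨t, rfl⟩
      exact hmem t)
  have hδ : δ ≫ (UU pX U).ι = U.ι ≫ Δ pX := IsOpenImmersion.lift_fac _ _ _
  have hδ₁ : δ ≫ pr₁ pX U = 𝟙 _ := by
    rw [← cancel_mono U.ι, Category.assoc, pr₁_ι, reassoc_of% hδ, pullback.lift_fst]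
    simp
  have hδ₂ : δ ≫ pr₂ pX U = 𝟙 _ := by
    rw [← cancel_mono U.ι, Category.assoc, pr₂_ι, reassoc_of% hδ, pullback.lift_snd]
    simp
  let A₀ : Over.mk (U.ι ≫ pX) ⟶ Over.mk pG := pt f hf
  have h : δ ≫ diffMap f hf = (U.ι ≫ pX) ≫ unitSec pG := by
    refine (left_div δ (by rw [reassoc_of% hδ, pullback.lift_fst_assoc, Category.id_comp]) _ _ A₀ A₀
      ?_ ?_).trans ?_
    · exact ((Category.assoc _ _ _).symm.trans (congrArg (· ≫ f) hδ₁)).trans (Category.id_comp _)
    · exact ((Category.assoc _ _ _).symm.trans (congrArg (· ≫ f) hδ₂)).trans (Category.id_comp _)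
    · rw [div_self', Hom.one_def, Over.comp_left, Over.toUnit_left]
      rfl
  refine ⟨hmem ⟨y, hy⟩, ?_⟩
  have h' := congr($h ⟨y, hy⟩)
  simp only [Scheme.Hom.comp_apply] at h'
  rw [show (⟨Δ pX y, hmem ⟨y, hy⟩⟩ : (UU pX U : Scheme.{u})) = δ ⟨y, hy⟩ from
    Subtype.ext (congr($hδ ⟨y, hy⟩)).symm]
  exact h'

theorem diffMap_agree {V : X.Opens} (f : (U : Scheme.{u}) ⟶ G) (hf : f ≫ pG = U.ι ≫ pX)
    (g : (V : Scheme.{u}) ⟶ G) (hg : g ≫ pG = V.ι ≫ pX)
    (h : X.homOfLE (inf_le_right : U ⊓ V ≤ V) ≫ g = X.homOfLE (inf_le_left : U ⊓ V ≤ U) ≫ f) :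
    (pullback pX pX).homOfLE (inf_le_right : UU pX U ⊓ UU pX V ≤ UU pX V) ≫ diffMap g hg =
      (pullback pX pX).homOfLE (inf_le_left : UU pX U ⊓ UU pX V ≤ UU pX U) ≫ diffMap f hf := by
  let D : (pullback pX pX).Opens := UU pX U ⊓ UU pX V
  let l (p : pullback pX pX ⟶ X) (hp : ∀ t ∈ D, p t ∈ U ⊓ V) :
      { a : (D : Scheme.{u}) ⟶ ((U ⊓ V : X.Opens) : Scheme.{u}) // a ≫ (U ⊓ V).ι = D.ι ≫ p } :=
    ⟨IsOpenImmersion.lift (U ⊓ V).ι (D.ι ≫ p) (by
      rw [Scheme.Opens.range_ι]
      rintro _ ⟨t, rfl⟩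
      exact hp t.1 t.2), IsOpenImmersion.lift_fac _ _ _⟩
  obtain ⟨a, ha⟩ := l (pullback.fst pX pX) fun t ht => ⟨ht.1.1, ht.2.1⟩
  obtain ⟨b, hb⟩ := l (pullback.snd pX pX) fun t ht => ⟨ht.1.2, ht.2.2⟩
  have hw : ∀ (c : (D : Scheme.{u}) ⟶ ((U ⊓ V : X.Opens) : Scheme.{u})) (p : pullback pX pX ⟶ X),
      c ≫ (U ⊓ V).ι = D.ι ≫ p → p ≫ pX = pP pX →
      (c ≫ X.homOfLE (inf_le_left : U ⊓ V ≤ U) ≫ f) ≫ pG = D.ι ≫ pP pX := fun c p hc hp => by
    rw [Category.assoc, Category.assoc, hf, Scheme.homOfLE_ι_assoc, reassoc_of% hc, hp]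
  let A₁ : Over.mk (D.ι ≫ pP pX) ⟶ Over.mk pG :=
    pt (a ≫ X.homOfLE (inf_le_left : U ⊓ V ≤ U) ≫ f) (hw a _ ha rfl)
  let A₂ : Over.mk (D.ι ≫ pP pX) ⟶ Over.mk pG :=
    pt (b ≫ X.homOfLE (inf_le_left : U ⊓ V ≤ U) ≫ f) (hw b _ hb pullback.condition.symm)
  have e1 : (pullback pX pX).homOfLE (inf_le_right : D ≤ UU pX V) ≫ pr₁ pX V =
      a ≫ X.homOfLE (inf_le_right : U ⊓ V ≤ V) := by
    rw [← cancel_mono V.ι, Category.assoc, Category.assoc, pr₁_ι, Scheme.homOfLE_ι, ha,
      Scheme.homOfLE_ι_assoc]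
  have e2 : (pullback pX pX).homOfLE (inf_le_right : D ≤ UU pX V) ≫ pr₂ pX V =
      b ≫ X.homOfLE (inf_le_right : U ⊓ V ≤ V) := by
    rw [← cancel_mono V.ι, Category.assoc, Category.assoc, pr₂_ι, Scheme.homOfLE_ι, hb,
      Scheme.homOfLE_ι_assoc]
  have e3 : (pullback pX pX).homOfLE (inf_le_left : D ≤ UU pX U) ≫ pr₁ pX U =
      a ≫ X.homOfLE (inf_le_left : U ⊓ V ≤ U) := by
    rw [← cancel_mono U.ι, Category.assoc, Category.assoc, pr₁_ι, Scheme.homOfLE_ι, ha,
      Scheme.homOfLE_ι_assoc]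
  have e4 : (pullback pX pX).homOfLE (inf_le_left : D ≤ UU pX U) ≫ pr₂ pX U =
      b ≫ X.homOfLE (inf_le_left : U ⊓ V ≤ U) := by
    rw [← cancel_mono U.ι, Category.assoc, Category.assoc, pr₂_ι, Scheme.homOfLE_ι, hb,
      Scheme.homOfLE_ι_assoc]
  refine (left_div _ (Scheme.homOfLE_ι_assoc _ _ _) _ _ A₁ A₂ ?_ ?_).trans
    (left_div _ (Scheme.homOfLE_ι_assoc _ _ _) _ _ A₁ A₂ ?_ ?_).symm
  · exact ((Category.assoc _ _ _).symm.trans (congrArg (· ≫ g) e1)).trans
      ((Category.assoc _ _ _).trans (congrArg (a ≫ ·) h))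
  · exact ((Category.assoc _ _ _).symm.trans (congrArg (· ≫ g) e2)).trans
      ((Category.assoc _ _ _).trans (congrArg (b ≫ ·) h))
  · exact ((Category.assoc _ _ _).symm.trans (congrArg (· ≫ f) e3)).trans (Category.assoc _ _ _)
  · exact ((Category.assoc _ _ _).symm.trans (congrArg (· ≫ f) e4)).trans (Category.assoc _ _ _)

omit [GrpObj (Over.mk pG)] in
theorem ringKrullDim_stalk_fromSpecStalk_le {Y : Scheme.{u}} (x : Y)
    (q : PrimeSpectrum (Y.presheaf.stalk x)) :
    ringKrullDim (Y.presheaf.stalk (Y.fromSpecStalk x q)) ≤ q.asIdeal.height := by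
  have hy : Y.fromSpecStalk x q ⤳ x := by
    have : Y.fromSpecStalk x q ∈ Set.range (Y.fromSpecStalk x) := ⟨q, rfl⟩
    rwa [Scheme.range_fromSpecStalk] at this
  let R := Y.presheaf.stalk (Y.fromSpecStalk x q)
  let c : PrimeSpectrum R → PrimeSpectrum (Y.presheaf.stalk x) :=
    PrimeSpectrum.comap (Y.presheaf.stalkSpecializes hy).hom
  have hc : ∀ P, Y.fromSpecStalk x (c P) = Y.fromSpecStalk (Y.fromSpecStalk x q) P := fun P =>
    (congr($(Scheme.SpecMap_stalkSpecializes_fromSpecStalk hy) P) :)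
  have hmono : StrictMono c :=
    Monotone.strictMono_of_injective (fun P Q hPQ => Ideal.comap_mono hPQ) fun P Q hPQ =>
      (Y.fromSpecStalk _).isEmbedding.injective (by rw [← hc, ← hc, hPQ])
  have hm : c (IsLocalRing.closedPoint R) = q :=
    (Y.fromSpecStalk x).isEmbedding.injective (by rw [hc, Scheme.fromSpecStalk_closedPoint])
  rw [← IsLocalRing.maximalIdeal_height_eq_ringKrullDim,
    show (IsLocalRing.maximalIdeal R) = (IsLocalRing.closedPoint R).asIdeal from rfl,
    PrimeSpectrum.height_eq_orderHeight, PrimeSpectrum.height_eq_orderHeight]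
  exact WithBot.coe_le_coe.mpr
    ((Order.height_le_height_apply_of_strictMono c hmono (IsLocalRing.closedPoint R)).trans_eq
      (congrArg Order.height hm))

variable [Smooth pX] [IsSeparated pG] [LocallyOfFiniteType pG] [IsLocallyNoetherian S]

/-- The difference map is defined at a diagonal point if the map is defined at all points of
codimension at most one specializing to it. -/
theorem definedAt_diffMap (hX : ∀ a : X, IsRegularLocalRing (X.presheaf.stalk a))
    (hXX : ∀ z : ↥(pullback pX pX), IsRegularLocalRing ((pullback pX pX).presheaf.stalk z))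
    (hU : FibrewiseDense pX U) (f : (U : Scheme.{u}) ⟶ G) (hf : f ≫ pG = U.ι ≫ pX) (x : X)
    (h : ∀ y : X, y ⤳ x → ringKrullDim (X.presheaf.stalk y) ≤ 1 → DefinedAt pX pG U f y) :
    DefinedAt (pP pX) pG (UU pX U) (diffMap f hf) (Δ pX x) := by
  haveI : IsLocallyNoetherian X := LocallyOfFiniteType.isLocallyNoetherian pX
  haveI : IsLocallyNoetherian (pullback pX pX) :=
    LocallyOfFiniteType.isLocallyNoetherian (pullback.fst pX pX)
  haveI : IsReduced (pullback pX pX) := isReduced_of_regular_stalks hXX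
  set P := pullback pX pX with hP
  set z : P := Δ pX x with hz
  let O := P.presheaf.stalk z
  haveI : IsRegularLocalRing O := hXX z
  haveI : IsDomain O := Groth.L01.isDomain_of_regular O
  haveI : IsDomain (X.presheaf.stalk x) := by
    haveI := hX x
    exact Groth.L01.isDomain_of_regular _
  haveI : IsDomain (P.presheaf.stalk z) := inferInstanceAs (IsDomain O)
  haveI : UniqueFactorizationMonoid O := (Groth.Agent.S2821.result O).2
  let K := CommRingCat.of (FractionRing O)
  let aK : Spec K ⟶ P := Spec.map (CommRingCat.ofHom (algebraMap O (FractionRing O))) ≫ P.fromSpecStalk z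
  have haK : ∀ t, aK t = Groth.L18.Codim1.eta P z := fun t => by
    rw [Scheme.Hom.comp_apply]
    refine congrArg _ (PrimeSpectrum.ext ?_)
    show t.asIdeal.comap (algebraMap O (FractionRing O)) = ⊥
    rw [(Ideal.eq_bot_of_prime t.asIdeal)]
    exact (RingHom.injective_iff_ker_eq_bot _).mp (IsFractionRing.injective O (FractionRing O))
  have hη : Groth.L18.Codim1.eta P z ∈ UU pX U :=
    Groth.L18.Codim1.eta_mem_of_dense z (dense_UU hU)
  let aU : Spec K ⟶ (UU pX U : Scheme.{u}) := IsOpenImmersion.lift (UU pX U).ι aK (by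
    rw [Scheme.Opens.range_ι]
    rintro _ ⟨t, rfl⟩
    rw [haK]
    exact hη)
  have haU : aU ≫ (UU pX U).ι = aK := IsOpenImmersion.lift_fac _ _ _
  -- an affine neighbourhood of the unit
  obtain ⟨_, ⟨B₀, hB, rfl⟩, hsB, -⟩ :=
    S.isBasis_affineOpens.exists_subset_of_mem_open (Set.mem_univ (pX x)) isOpen_univ
  let B : S.Opens := B₀
  have hBaff : IsAffineOpen B := hB
  have hes : pG (unitSec pG (pX x)) = pX x := by
    rw [← Scheme.Hom.comp_apply]
    exact congr($(Over.w η[Over.mk pG]) (pX x))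
  obtain ⟨_, ⟨A₀, hA, rfl⟩, heA, hAB⟩ := G.isBasis_affineOpens.exists_subset_of_mem_open
    (show unitSec pG (pX x) ∈ (pG ⁻¹ᵁ B : G.Opens) by
      show pG (unitSec pG (pX x)) ∈ B
      rw [hes]; exact hsB) (pG ⁻¹ᵁ B).2
  let A : G.Opens := A₀
  have hAaff : IsAffineOpen A := hA
  have heA' : ∀ y, y ⤳ x → unitSec pG (pX y) ∈ A := fun y hy =>
    ((hy.map pX.continuous).map (unitSec pG).continuous).mem_open A.2 heA
  let φK : Spec K ⟶ G := aU ≫ diffMap f hf
  have hφK : Set.range φK ⊆ (A : Set G) := by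
    rintro _ ⟨t, rfl⟩
    have hy₀ : Groth.L18.Codim1.eta X x ∈ U := Groth.L18.Codim1.eta_mem_of_dense x hU.dense
    have hy₀x : Groth.L18.Codim1.eta X x ⤳ x :=
      Groth.L18.Codim1.eta_specializes_of_specializes specializes_rfl
    obtain ⟨hm, he⟩ := diffMap_diag f hf _ hy₀
    have hsp : Groth.L18.Codim1.eta P z ⤳ Δ pX (Groth.L18.Codim1.eta X x) :=
      Groth.L18.Codim1.eta_specializes_of_specializes (hy₀x.map (Δ pX).continuous)
    have hsp' : aU t ⤳ (⟨Δ pX (Groth.L18.Codim1.eta X x), hm⟩ : (UU pX U : Scheme.{u})) := by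
      refine (UU pX U).ι.isEmbedding.isInducing.specializes_iff.mp ?_
      rw [← Scheme.Hom.comp_apply, haU, haK]
      exact hsp
    exact (hsp'.map (diffMap f hf).continuous).mem_open A.2 (by rw [he]; exact heA' _ hy₀x)
  let θ : Γ(G, A) ⟶ K := Spec.preimage
    (IsOpenImmersion.lift hAaff.fromSpec φK (by rw [hAaff.range_fromSpec]; exact hφK))
  have hθ : Spec.map θ ≫ hAaff.fromSpec = φK := by
    rw [Spec.map_preimage]
    exact IsOpenImmersion.lift_fac _ _ _
  -- every function is regular at the diagonal point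
  have key : ∀ a : Γ(G, A), θ.hom a ∈ (algebraMap O (FractionRing O)).range := by
    intro a
    obtain ⟨n, d, hnd, he⟩ := IsFractionRing.exists_reduced_fraction O (θ.hom a : FractionRing O)
    by_cases hd : IsUnit (d : O)
    · obtain ⟨v, hv⟩ := hd
      refine ⟨n * ↑v⁻¹, ?_⟩
      rw [← he, map_mul, IsLocalization.eq_mk'_iff_mul_eq, ← hv, _root_.mul_assoc, ← map_mul, Units.inv_mul,
        map_one, _root_.mul_one]
    exfalso
    obtain ⟨π, hπ, hπd⟩ := WfDvdMonoid.exists_irreducible_factor hd (nonZeroDivisors.coe_ne_zero d)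
    have hπ' : Prime π := UniqueFactorizationMonoid.irreducible_iff_prime.mp hπ
    let δ : O →+* X.presheaf.stalk x := ((Δ pX).stalkMap x).hom
    haveI : IsLocalHom δ := inferInstanceAs (IsLocalHom ((Δ pX).stalkMap x).hom)
    have hδπ : ¬ IsUnit (δ π) := fun hu => hπ.not_isUnit (isUnit_of_map_unit δ π hu)
    obtain ⟨q, hq, -⟩ := Ideal.exists_minimalPrimes_le (I := Ideal.span {δ π})
      (J := IsLocalRing.maximalIdeal (X.presheaf.stalk x)) (by
        rw [Ideal.span_le, Set.singleton_subset_iff]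
        exact hδπ)
    haveI : q.IsPrime := hq.1.1
    haveI : IsNoetherianRing (X.presheaf.stalk x) := inferInstance
    have hqh : q.height ≤ 1 :=
      Ideal.height_le_one_of_isPrincipal_of_mem_minimalPrimes (Ideal.span {δ π}) q hq
    have hπq : δ π ∈ q := hq.1.2 (Ideal.mem_span_singleton_self _)
    let y : X := X.fromSpecStalk x (⟨q, inferInstance⟩ : PrimeSpectrum _)
    have hy : y ⤳ x := by
      have : y ∈ Set.range (X.fromSpecStalk x) := ⟨_, rfl⟩
      rwa [Scheme.range_fromSpecStalk] at this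
    have hdy : ringKrullDim (X.presheaf.stalk y) ≤ 1 :=
      (ringKrullDim_stalk_fromSpecStalk_le x _).trans (by exact_mod_cast hqh)
    obtain ⟨V, g, hyV, hg, hag⟩ := h y hy hdy
    let Q : Ideal O := q.comap δ
    have hQy : P.fromSpecStalk z (⟨Q, inferInstance⟩ : PrimeSpectrum O) = Δ pX y :=
      (congr($(Scheme.SpecMap_stalkMap_fromSpecStalk (Δ pX) (x := x)) (⟨q, inferInstance⟩ : PrimeSpectrum _)) :)
    obtain ⟨hm, hey⟩ := diffMap_diag g hg y hyV
    let OQ := CommRingCat.of (Localization.AtPrime Q)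
    let b : Spec OQ ⟶ P :=
      Spec.map (CommRingCat.ofHom (algebraMap O (Localization.AtPrime Q))) ≫ P.fromSpecStalk z
    have hbsp : ∀ t, b t ⤳ Δ pX y := fun t => by
      rw [← hQy, Scheme.Hom.comp_apply]
      refine Specializes.map ?_ (P.fromSpecStalk z).continuous
      refine (PrimeSpectrum.le_iff_specializes _ _).mp ?_
      show t.asIdeal.comap (algebraMap O (Localization.AtPrime Q)) ≤ Q
      exact (Ideal.comap_mono (IsLocalRing.le_maximalIdeal t.2.ne_top)).trans_eq
        (IsLocalization.AtPrime.under_maximalIdeal (Localization.AtPrime Q) Q)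
    let bV : Spec OQ ⟶ (UU pX V : Scheme.{u}) := IsOpenImmersion.lift (UU pX V).ι b (by
      rw [Scheme.Opens.range_ι]
      rintro _ ⟨t, rfl⟩
      exact (hbsp t).mem_open (UU pX V).2 hm)
    have hbV : bV ≫ (UU pX V).ι = b := IsOpenImmersion.lift_fac _ _ _
    have hbA : Set.range (bV ≫ diffMap g hg) ⊆ Set.range hAaff.fromSpec := by
      rw [hAaff.range_fromSpec]
      rintro _ ⟨t, rfl⟩
      rw [Scheme.Hom.comp_apply]
      have hsp : bV t ⤳ (⟨Δ pX y, hm⟩ : (UU pX V : Scheme.{u})) := by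
        refine (UU pX V).ι.isEmbedding.isInducing.specializes_iff.mp ?_
        rw [← Scheme.Hom.comp_apply, hbV]
        exact hbsp t
      exact (hsp.map (diffMap g hg).continuous).mem_open A.2 (by rw [hey]; exact heA' y hy)
    let θQ : Γ(G, A) ⟶ OQ := Spec.preimage (IsOpenImmersion.lift hAaff.fromSpec (bV ≫ diffMap g hg) hbA)
    have hθQ : Spec.map θQ ≫ hAaff.fromSpec = bV ≫ diffMap g hg := by
      rw [Spec.map_preimage]
      exact IsOpenImmersion.lift_fac _ _ _
    let j : Localization.AtPrime Q →+* FractionRing O :=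
      IsLocalization.lift (M := Q.primeCompl) (g := algebraMap O (FractionRing O)) fun c =>
        IsUnit.mk0 _ ((map_ne_zero_iff _ (IsFractionRing.injective O (FractionRing O))).mpr
          fun hc => c.2 (hc ▸ zero_mem Q))
    have hj : j.comp (algebraMap O (Localization.AtPrime Q)) = algebraMap O (FractionRing O) :=
      IsLocalization.lift_comp _
    have hjK : Spec.map (CommRingCat.ofHom j) ≫ b = aK := by
      rw [← Category.assoc, ← Spec.map_comp, ← CommRingCat.ofHom_comp, hj]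
    have hθθQ : θ = θQ ≫ CommRingCat.ofHom j := by
      apply Spec.map_injective
      rw [← cancel_mono hAaff.fromSpec, hθ, Spec.map_comp, Category.assoc, hθQ]
      let c : Spec K ⟶ ((UU pX U ⊓ UU pX V : P.Opens) : Scheme.{u}) :=
        IsOpenImmersion.lift (UU pX U ⊓ UU pX V).ι aK (by
          rw [Scheme.Opens.range_ι]
          rintro _ ⟨t, rfl⟩
          refine ⟨by rw [haK]; exact hη, ?_⟩
          rw [← hjK, Scheme.Hom.comp_apply]
          exact (hbsp _).mem_open (UU pX V).2 hm)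
      have hc : c ≫ (UU pX U ⊓ UU pX V).ι = aK := IsOpenImmersion.lift_fac _ _ _
      have e1 : c ≫ P.homOfLE (inf_le_left : UU pX U ⊓ UU pX V ≤ UU pX U) = aU := by
        rw [← cancel_mono (UU pX U).ι, Category.assoc, Scheme.homOfLE_ι, hc, haU]
      have e2 : c ≫ P.homOfLE (inf_le_right : UU pX U ⊓ UU pX V ≤ UU pX V) =
          Spec.map (CommRingCat.ofHom j) ≫ bV := by
        rw [← cancel_mono (UU pX V).ι, Category.assoc, Scheme.homOfLE_ι, hc, Category.assoc, hbV, hjK]
      show aU ≫ diffMap f hf = _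
      rw [← e1, Category.assoc, ← diffMap_agree f hf g hg hag, reassoc_of% e2]
    obtain ⟨⟨n', d'⟩, hnd'⟩ := IsLocalization.surj Q.primeCompl (θQ.hom a : Localization.AtPrime Q)
    simp only at hnd'
    have hK : (θ.hom a : FractionRing O) * algebraMap O (FractionRing O) d' =
        algebraMap O (FractionRing O) n' := by
      have h1 : j (θQ.hom a : Localization.AtPrime Q) * j (algebraMap O (Localization.AtPrime Q) d') =
          j (algebraMap O (Localization.AtPrime Q) n') := by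
        rw [← map_mul]
        exact congrArg j hnd'
      rw [← RingHom.comp_apply j (algebraMap O (Localization.AtPrime Q)),
        ← RingHom.comp_apply j (algebraMap O (Localization.AtPrime Q)), hj] at h1
      rw [hθθQ]
      exact h1
    have heq : n * d' = n' * (d : O) := by
      apply IsFractionRing.injective O (FractionRing O)
      rw [map_mul, map_mul, ← hK, ← he, mul_right_comm, IsLocalization.mk'_spec]
    have hdvd : π ∣ n * d' := heq ▸ dvd_mul_of_dvd_right hπd n'
    rcases hπ'.dvd_or_dvd hdvd with h1 | h1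
    · exact hπ.not_isUnit (hnd h1 hπd)
    · exact d'.2 (Q.mem_of_dvd h1 hπq)
  -- spread out
  let ιO : O →+* FractionRing O := algebraMap O (FractionRing O)
  have hιO : Function.Injective ιO := IsFractionRing.injective O (FractionRing O)
  let θ' : Γ(G, A) →+* O :=
    (RingEquiv.ofBijective ιO.rangeRestrict
      ⟨fun a b hab => hιO (congrArg Subtype.val hab), ιO.rangeRestrict_surjective⟩).symm.toRingHom.comp
      (θ.hom.codRestrict ιO.range key)
  have hθ' : ιO.comp θ' = θ.hom := by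
    ext a
    exact congrArg Subtype.val ((RingEquiv.ofBijective ιO.rangeRestrict
      ⟨fun a b hab => hιO (congrArg Subtype.val hab), ιO.rangeRestrict_surjective⟩).apply_symm_apply
        ⟨θ.hom a, key a⟩)
  let φO : Spec O ⟶ G := Spec.map (CommRingCat.ofHom θ') ≫ hAaff.fromSpec
  have hKO : Spec.map (CommRingCat.ofHom ιO) ≫ φO = φK := by
    have e : CommRingCat.ofHom θ' ≫ CommRingCat.ofHom ιO = θ := CommRingCat.hom_ext hθ'
    rw [← Category.assoc, ← Spec.map_comp]
    erw [e]
    exact hθ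
  have hφOS : φO ≫ pG = P.fromSpecStalk z ≫ pP pX := by
    have hr1 : Set.range (φO ≫ pG) ⊆ Set.range hBaff.fromSpec := by
      rw [hBaff.range_fromSpec]
      rintro _ ⟨t, rfl⟩
      exact hAB (hAaff.range_fromSpec.le ⟨_, rfl⟩)
    have hr2 : Set.range (P.fromSpecStalk z ≫ pP pX) ⊆ Set.range hBaff.fromSpec := by
      rw [hBaff.range_fromSpec]
      rintro _ ⟨t, rfl⟩
      have ht : P.fromSpecStalk z t ⤳ z := by
        have : P.fromSpecStalk z t ∈ Set.range (P.fromSpecStalk z) := ⟨t, rfl⟩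
        rwa [Scheme.range_fromSpecStalk] at this
      refine (ht.map (pP pX).continuous).mem_open B.2 ?_
      rw [hz, ← Scheme.Hom.comp_apply, pullback.lift_fst_assoc]
      exact hsB
    rw [← IsOpenImmersion.lift_fac hBaff.fromSpec _ hr1, ← IsOpenImmersion.lift_fac hBaff.fromSpec _ hr2]
    congr 1
    obtain ⟨r1, hr1'⟩ := Spec.map_surjective (IsOpenImmersion.lift hBaff.fromSpec _ hr1)
    obtain ⟨r2, hr2'⟩ := Spec.map_surjective (IsOpenImmersion.lift hBaff.fromSpec _ hr2)
    rw [← hr1', ← hr2']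
    congr 1
    have h12 : r1 ≫ CommRingCat.ofHom ιO = r2 ≫ CommRingCat.ofHom ιO := by
      apply Spec.map_injective
      rw [← cancel_mono hBaff.fromSpec, Spec.map_comp, Spec.map_comp, Category.assoc, Category.assoc,
        hr1', hr2', IsOpenImmersion.lift_fac, IsOpenImmersion.lift_fac]
      refine ((Category.assoc _ _ _).symm.trans (congrArg (· ≫ pG) hKO)).trans ?_
      show (aU ≫ diffMap f hf) ≫ pG = _
      rw [Category.assoc, diffMap_w, reassoc_of% haU]
      exact Category.assoc _ _ _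
    ext a
    exact hιO (congr(($h12).hom a))
  obtain ⟨U', hzU', ψ, hψ, hψS⟩ := spread_out_of_isGermInjective' (pP pX) pG φO hφOS
  obtain ⟨N, hzN, hN⟩ := Groth.L18.Codim1.exists_nhds_subset_closure z
  let W : P.Opens := U' ⊓ N
  refine ⟨W, P.homOfLE (inf_le_left : W ≤ U') ≫ ψ, ⟨hzU', hzN⟩, ?_, ?_⟩
  · rw [Category.assoc, hψS, Scheme.homOfLE_ι_assoc]
  let D : P.Opens := UU pX U ⊓ W
  let c : Spec K ⟶ (D : Scheme.{u}) := IsOpenImmersion.lift D.ι aK (by
    rw [Scheme.Opens.range_ι]
    rintro _ ⟨t, rfl⟩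
    rw [haK]
    exact ⟨hη, (Groth.L18.Codim1.eta_specializes_of_specializes specializes_rfl).mem_open U'.2 hzU',
      (Groth.L18.Codim1.eta_specializes_of_specializes specializes_rfl).mem_open N.2 hzN⟩)
  have hc : c ≫ D.ι = aK := IsOpenImmersion.lift_fac _ _ _
  haveI : IsDominant c := ⟨by
    intro d
    refine (D.ι.isEmbedding.isInducing.closure_eq_preimage_closure_image _).ge ?_
    rw [Set.mem_preimage, ← Set.range_comp]
    have hrange : Set.range (⇑D.ι ∘ ⇑c) = {Groth.L18.Codim1.eta P z} := by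
      ext p
      refine ⟨?_, fun hp => ⟨default, ?_⟩⟩
      · rintro ⟨t, rfl⟩
        rw [Function.comp_apply, ← Scheme.Hom.comp_apply, hc, haK]
        rfl
      · rw [Function.comp_apply, ← Scheme.Hom.comp_apply, hc, haK]
        exact hp.symm
    rw [hrange, ← specializes_iff_mem_closure]
    exact hN _ d.2.2.2⟩
  refine ext_of_isDominant_of_isSeparated pG ?_ c ?_
  · rw [Category.assoc, Category.assoc, Category.assoc, hψS, diffMap_w]
    simp only [Scheme.homOfLE_ι_assoc]
  · have e1 : c ≫ P.homOfLE (inf_le_left : D ≤ UU pX U) = aU := by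
      rw [← cancel_mono (UU pX U).ι, Category.assoc, Scheme.homOfLE_ι, hc, haU]
    have e2 : c ≫ P.homOfLE (inf_le_right.trans inf_le_left : D ≤ U') =
        Spec.map (CommRingCat.ofHom ιO) ≫ U'.fromSpecStalkOfMem z hzU' := by
      rw [← cancel_mono U'.ι, Category.assoc, Scheme.homOfLE_ι, hc, Category.assoc,
        Scheme.Opens.fromSpecStalkOfMem_ι]
    rw [reassoc_of% e1, Scheme.homOfLE_homOfLE_assoc, reassoc_of% e2, ← hψ, hKO]

/-- **Weil's extension theorem**: defined at codimension one implies defined. -/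
theorem definedAt_of_codimOne (hX : ∀ a : X, IsRegularLocalRing (X.presheaf.stalk a))
    (hXX : ∀ z : ↥(pullback pX pX), IsRegularLocalRing ((pullback pX pX).presheaf.stalk z))
    (hU : FibrewiseDense pX U) (f : (U : Scheme.{u}) ⟶ G) (hf : f ≫ pG = U.ι ≫ pX) (x : X)
    (h : ∀ y : X, y ⤳ x → ringKrullDim (X.presheaf.stalk y) ≤ 1 → DefinedAt pX pG U f y) :
    DefinedAt pX pG U f x := by
  haveI : IsReduced (pullback pX pX) := isReduced_of_regular_stalks hXX
  exact definedAt_of_diffMap hU f hf x (definedAt_diffMap hX hXX hU f hf x h)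

end Groth.L26.Weil
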