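/-
Weil's extension theorem over regular affine bases.
-/
import Groth.Agent.L26.Weil.Main

set_option autoImplicit false
set_option linter.style.haveILetI false
set_option backward.isDefEq.respectTransparency.types false

open CategoryTheory CategoryTheory.Limits AlgebraicGeometry MonObj

universe u

namespace Groth.L26.Weil

variable {R : Type u} [CommRing R] [IsRegularRing R] {X G : Scheme.{u}}
  {pX : X ⟶ Spec (CommRingCat.of R)} {pG : G ⟶ Spec (CommRingCat.of R)}
  [GrpObj (Over.mk pG)] [Smooth pX] [IsSeparated pG] [LocallyOfFiniteType pG]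

omit [GrpObj (Over.mk pG)] [IsSeparated pG] [LocallyOfFiniteType pG] in
theorem regular_product (z : ↥(pullback pX pX)) :
    IsRegularLocalRing ((pullback pX pX).presheaf.stalk z) :=
  regular_stalk (pullback.fst pX pX ≫ pX) z

theorem definedAt_spec {U : X.Opens} (hU : FibrewiseDense pX U) (f : (U : Scheme.{u}) ⟶ G)
    (hf : f ≫ pG = U.ι ≫ pX) (x : X)
    (h : ∀ y : X, y ⤳ x → ringKrullDim (X.presheaf.stalk y) ≤ 1 → DefinedAt pX pG U f y) :
    DefinedAt pX pG U f x :=
  definedAt_of_codimOne (regular_stalk pX) regular_product hU f hf x h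

theorem existsUnique_of_codimOne {U : X.Opens} (hU : FibrewiseDense pX U) (f : (U : Scheme.{u}) ⟶ G)
    (hf : f ≫ pG = U.ι ≫ pX)
    (h : ∀ y : X, ringKrullDim (X.presheaf.stalk y) ≤ 1 → DefinedAt pX pG U f y) :
    ∃! g : X ⟶ G, g ≫ pG = pX ∧ U.ι ≫ g = f := by
  haveI : IsReduced X := isReduced_of_regular_stalks (regular_stalk pX)
  exact existsUnique_extension pX pG U hU.dense f hf fun x =>
    definedAt_spec hU f hf x fun y _ hy => h y hy

omit [GrpObj (Over.mk pG)] [IsSeparated pG] [LocallyOfFiniteType pG] in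
theorem exists_extension_proper [IsProper pG] {U : X.Opens} (hU : Dense (U : Set X))
    (f : (U : Scheme.{u}) ⟶ G) (hf : f ≫ pG = U.ι ≫ pX) :
    ∃ (V : X.Opens) (hUV : U ≤ V) (g : (V : Scheme.{u}) ⟶ G), g ≫ pG = V.ι ≫ pX ∧
      X.homOfLE hUV ≫ g = f ∧ ∀ y : X, ringKrullDim (X.presheaf.stalk y) ≤ 1 → y ∈ V := by
  haveI : IsReduced X := isReduced_of_regular_stalks (regular_stalk pX)
  haveI : IsLocallyNoetherian X := LocallyOfFiniteType.isLocallyNoetherian pX
  exact Groth.L18.Codim1.exists_extension_proper pG pX U hU f hf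
    {y | ringKrullDim (X.presheaf.stalk y) ≤ 1} fun y hy => by
      haveI := regular_stalk pX y
      exact Groth.L18.Codim1.isDomain_valuationRing_of_regular _ hy

omit [IsSeparated pG] [LocallyOfFiniteType pG] in
/-- A rational map, dense in every fibre, into a proper group scheme is a morphism. -/
theorem existsUnique_of_proper [IsProper pG] {U : X.Opens} (hU : FibrewiseDense pX U)
    (f : (U : Scheme.{u}) ⟶ G) (hf : f ≫ pG = U.ι ≫ pX) :
    ∃! g : X ⟶ G, g ≫ pG = pX ∧ U.ι ≫ g = f := by
  obtain ⟨V, hUV, g, hg, hgf, hV⟩ := exists_extension_proper hU.dense f hf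
  refine existsUnique_of_codimOne hU f hf fun y hy => ⟨V, g, hV y hy, hg, ?_⟩
  rw [← hgf, Scheme.homOfLE_homOfLE_assoc]

end Groth.L26.Weil
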