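/-
Morphisms from products of smooth varieties into proper groups: rigidity without completeness.
-/
import Groth.Agent.L26.Weil.Apply
import Groth.Agent.L26.AV.Rigidity
import Groth.Agent.L12.CotTSmooth
import Groth.Agent.S2345
import Mathlib.AlgebraicGeometry.AlgClosed.Basic
import Mathlib.CategoryTheory.Monoidal.Cartesian.Grp
import Mathlib.RingTheory.Jacobson.Ring
import Mathlib.RingTheory.AlgebraicIndependent.Transcendental

set_option autoImplicit false
set_option linter.style.haveILetI false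
set_option backward.isDefEq.respectTransparency.types false

open CategoryTheory CategoryTheory.Limits MonoidalCategory CartesianMonoidalCategory MonObj GrpObj
  AlgebraicGeometry

universe u

namespace Groth.L26.Weil

variable {K : Type u} [Field K]

/-- A scheme locally of finite type over an algebraically closed field is smooth if it is regular at
its closed points. -/
theorem smooth_of_regular_closed [IsAlgClosed K] {C : Scheme.{u}}
    (p : C ⟶ Spec (CommRingCat.of K)) [LocallyOfFiniteType p]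
    (h : ∀ x : C, IsClosed ({x} : Set C) → IsRegularLocalRing (C.presheaf.stalk x)) : Smooth p := by
  have : JacobsonSpace C := LocallyOfFiniteType.jacobsonSpace p
  refine HasRingHomProperty.of_iSup_eq_top (P := @Smooth) (fun V : C.affineOpens => V)
    (iSup_affineOpens_eq_top C) fun V => ?_
  have hft : (p.appLE ⊤ V.1 le_top).hom.FiniteType :=
    HasRingHomProperty.appLE @LocallyOfFiniteType p ‹_› ⟨⊤, isAffineOpen_top _⟩ V le_top
  let φ : K →+* Γ(C, V.1) := ((Scheme.ΓSpecIso (CommRingCat.of K)).inv ≫ p.appLE ⊤ V.1 le_top).hom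
  have hφ : φ.FiniteType := RingHom.finiteType_respectsIso.2 _
    (Scheme.ΓSpecIso (CommRingCat.of K)).symm.commRingCatIsoToRingEquiv hft
  letI := φ.toAlgebra
  haveI : Algebra.FiniteType K Γ(C, V.1) := RingHom.finiteType_algebraMap.mp hφ
  have hsm : Algebra.Smooth K Γ(C, V.1) := by
    refine Groth.L12.CotTLib.smooth_of_regular_maximal fun m hm => ?_
    let q : PrimeSpectrum Γ(C, V.1) := ⟨m, hm.isPrime⟩
    let x : C := V.2.fromSpec q
    have hxV : x ∈ V.1 := V.2.range_fromSpec.le ⟨q, rfl⟩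
    have hx : IsClosed ({x} : Set C) := by
      have hq : IsClosed ({q} : Set (PrimeSpectrum Γ(C, V.1))) :=
        (PrimeSpectrum.isClosed_singleton_iff_isMaximal q).mpr hm
      have himg := V.2.fromSpec.isOpenEmbedding.isEmbedding.isInducing
      refine isClosed_singleton_of_isLocallyClosed_singleton ?_
      simpa [x, Set.image_singleton] using
        hq.isLocallyClosed.image himg V.2.fromSpec.isOpenEmbedding.isOpen_range.isLocallyClosed
    haveI := h x hx
    letI := C.presheaf.algebra_section_stalk ⟨x, hxV⟩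
    haveI := V.2.isLocalization_stalk ⟨x, hxV⟩
    have hpr : (V.2.primeIdealOf ⟨x, hxV⟩).asIdeal = m := by
      have : V.2.primeIdealOf ⟨x, hxV⟩ = q := V.2.fromSpec.isOpenEmbedding.injective
        (V.2.fromSpec_primeIdealOf ⟨x, hxV⟩)
      exact congrArg PrimeSpectrum.asIdeal this
    haveI : IsLocalization.AtPrime (C.presheaf.stalk x) m := by
      convert V.2.isLocalization_stalk ⟨x, hxV⟩ using 1
      exact hpr.symm
    exact IsRegularLocalRing.of_ringEquiv (R := C.presheaf.stalk x)
      (IsLocalization.algEquiv m.primeCompl (C.presheaf.stalk x) (Localization.AtPrime m)).toRingEquiv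
  have hsm' : φ.Smooth := RingHom.smooth_algebraMap.mpr hsm
  have := RingHom.Smooth.respectsIso.2 φ (Scheme.ΓSpecIso (CommRingCat.of K)).commRingCatIsoToRingEquiv hsm'
  convert this using 1
  ext a
  exact congrArg _ (Iso.hom_inv_id_apply (Scheme.ΓSpecIso (CommRingCat.of K)) a).symm

/-- A quotient field of `B[1/p(t)]` has transcendence degree one. -/
theorem finiteData {B : Type u} [CommRing B] [Algebra K B] [Algebra.FiniteType K B] (t : B)
    (_ht : Transcendental K t) {L : Type u} [Field L] [Algebra K L] (π : B →ₐ[K] L)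
    (htL : Transcendental K (π t))
    (hgen : ∀ l : L, ∃ (x : B) (p : Polynomial K), p ≠ 0 ∧ l * π (Polynomial.aeval t p) = π x) :
    (⊤ : IntermediateField K L).FG ∧ Algebra.trdeg K L = 1 := by
  classical
  obtain ⟨s, hs⟩ := (Algebra.FiniteType.out : (⊤ : Subalgebra K B).FG)
  have hp : ∀ (p : Polynomial K), p ≠ 0 → π (Polynomial.aeval t p) ≠ 0 := fun p hp h0 =>
    hp ((transcendental_iff.mp htL) p (by rwa [Polynomial.aeval_algHom_apply]))
  refine ⟨⟨insert (π t) (s.image π), eq_top_iff.mpr fun l _ => ?_⟩, ?_⟩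
  · obtain ⟨x, p, hp0, hl⟩ := hgen l
    set F := IntermediateField.adjoin K (↑(insert (π t) (s.image π)) : Set L) with hF
    have hmem : ∀ b : B, π b ∈ F := fun b => by
      have hb : b ∈ Algebra.adjoin K (s : Set B) := hs ▸ Algebra.mem_top
      have : π b ∈ (Algebra.adjoin K (s : Set B)).map π := ⟨b, hb, rfl⟩
      rw [AlgHom.map_adjoin] at this
      refine (IntermediateField.algebra_adjoin_le_adjoin K _ (Algebra.adjoin_mono ?_ this))
      rintro _ ⟨b', hb', rfl⟩
      simp only [Finset.coe_insert, Finset.coe_image]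
      exact Set.mem_insert_of_mem _ ⟨b', hb', rfl⟩
    rw [eq_div_iff (hp p hp0) |>.mpr hl]
    exact F.div_mem (hmem _) (hmem _)
  · let F₀ := IntermediateField.adjoin K (Set.range fun _ : Unit => π t)
    have hπt : π t ∈ F₀ := IntermediateField.subset_adjoin K _ ⟨(), rfl⟩
    let A₁ : Subalgebra F₀ L := Algebra.adjoin F₀ (π '' (s : Set B))
    have hA₁ : ∀ b : B, π b ∈ A₁ := fun b => by
      have hb : b ∈ Algebra.adjoin K (s : Set B) := hs ▸ Algebra.mem_top
      have h1 : π b ∈ (Algebra.adjoin K (s : Set B)).map π := ⟨b, hb, rfl⟩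
      rw [AlgHom.map_adjoin] at h1
      exact (Algebra.adjoin_le (S := A₁.restrictScalars K) Algebra.subset_adjoin) h1
    haveI : Algebra.FiniteType F₀ L := ⟨⟨s.image π, eq_top_iff.mpr fun l _ => by
      obtain ⟨x, p, hp0, hl⟩ := hgen l
      have hpF : π (Polynomial.aeval t p) ∈ F₀ := by
        rw [← Polynomial.aeval_algHom_apply,
          show π t = ((⟨π t, hπt⟩ : F₀) : L) from rfl]
        exact (Polynomial.aeval_algHom_apply F₀.val (⟨π t, hπt⟩ : F₀) p).symm ▸ SetLike.coe_mem _
      have hl' : l = (⟨π (Polynomial.aeval t p), hpF⟩⁻¹ : F₀) • π x := by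
        rw [← hl, Algebra.smul_def]
        show l = (π (Polynomial.aeval t p))⁻¹ * (l * π (Polynomial.aeval t p))
        field_simp [hp p hp0]
      rw [hl', Finset.coe_image]
      exact A₁.smul_mem (hA₁ x) _⟩⟩
    haveI : Module.Finite F₀ L := finite_of_finite_type_of_isJacobsonRing F₀ L
    have halg : Algebra.IsAlgebraic F₀ L := Algebra.IsAlgebraic.of_finite F₀ L
    have hind : AlgebraicIndependent K fun _ : Unit => π t :=
      algebraicIndependent_unique_type_iff.mpr htL
    have hb : IsTranscendenceBasis K fun _ : Unit => π t :=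
      hind.isTranscendenceBasis_iff_isAlgebraic.mpr (IntermediateField.isAlgebraic_adjoin_iff_top.mp halg)
    simpa using hb.lift_cardinalMk_eq_trdeg.symm

theorem fromSpecStalk_comp_toSpec (C : Scheme.{u}) [C.Over (Spec (CommRingCat.of K))] (x : C) :
    C.fromSpecStalk x ≫ (C ↘ Spec (CommRingCat.of K)) =
      Spec.map (CommRingCat.ofHom (Curv2.stalkMap K C x)) := by
  have h : C ↘ Spec (CommRingCat.of K) = C.toSpecΓ ≫ Spec.map
      ((Scheme.ΓSpecIso (CommRingCat.of K)).inv ≫ (C ↘ Spec (CommRingCat.of K)).appTop) := by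
    rw [Spec.map_comp, ← Scheme.toSpecΓ_naturality_assoc, toSpecΓ_SpecMap_ΓSpecIso_inv,
      Category.comp_id]
  refine (congrArg (C.fromSpecStalk x ≫ ·) h).trans ?_
  rw [Scheme.fromSpecStalk_toSpecΓ_assoc, ← Spec.map_comp]
  rfl

theorem curve_contradiction [IsAlgClosed K] {V W A : Over (Spec (CommRingCat.of K))}
    [Smooth V.hom] [IsSeparated V.hom] [IsLocallyNoetherian V.left]
    [Smooth W.hom] [IsSeparated W.hom] [QuasiCompact W.hom] [GeometricallyIntegral W.hom]
    [GrpObj A] [IsProper A.hom]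
    (d : V ⊗ W ⟶ A) (w₀ : 𝟙_ _ ⟶ W) (h₁ : lift (𝟙 V) (toUnit V ≫ w₀) ≫ d = 1)
    (w : 𝟙_ _ ⟶ W) (φ : V ⟶ A) (hφ : φ = lift (𝟙 V) (toUnit V ≫ w) ≫ d)
    {D : A.left.Opens} (hD : IsAffineOpen D) {V' : V.left.Opens} (hV' : IsAffineOpen V')
    (hV'D : V' ≤ φ.left ⁻¹ᵁ D)
    [Algebra K Γ(V.left, V')]
    (halgV : algebraMap K Γ(V.left, V') =
      ((Scheme.ΓSpecIso (CommRingCat.of K)).inv ≫ V.hom.appLE ⊤ V' le_top).hom)
    (a : Γ(A.left, D)) {L : Type u} [Field L] [Algebra K L] (π : Γ(V.left, V') →ₐ[K] L)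
    (hπ : Transcendental K (π ((φ.left.appLE D V' hV'D).hom a)))
    (C : Scheme.{u}) [C.Over (Spec (CommRingCat.of K))] [IsIntegral C]
    (hCp : IsProper (C ↘ (Spec (CommRingCat.of K)))) (hCn : Pi1.IsNormalScheme C)
    (hCd : ∀ x : C, IsClosed ({x} : Set C) → ringKrullDim (C.presheaf.stalk x) = 1)
    (e : C.presheaf.stalk (genericPoint C) ≃+* L)
    (he : ∀ c : K, e (Curv2.stalkMap K C (genericPoint C) c) = algebraMap K L c) : False := by
  haveI := hCp
  let pC := C ↘ Spec (CommRingCat.of K)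
  haveI : IsLocallyNoetherian C := LocallyOfFiniteType.isLocallyNoetherian pC
  haveI : Smooth pC := smooth_of_regular_closed pC fun x hx => by
    haveI := (hCn x).1
    haveI := (hCn x).2
    haveI := Groth.L18.Codim1.valuationRing_of_normal (C.presheaf.stalk x) (hCd x hx).le
    infer_instance
  haveI : IsIntegral W.left := GeometricallyIntegral.isIntegral_of_subsingleton W.hom
  let zL : Spec (CommRingCat.of L) ⟶ V.left := Spec.map (CommRingCat.ofHom π.toRingHom) ≫ hV'.fromSpec
  have hzL : zL ≫ V.hom = Spec.map (CommRingCat.ofHom (algebraMap K L)) := by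
    rw [Category.assoc, ← IsAffineOpen.SpecMap_appLE_fromSpec V.hom (isAffineOpen_top _) hV' le_top,
      IsAffineOpen.fromSpec_top, Scheme.isoSpec_Spec_inv, ← Spec.map_comp, ← Spec.map_comp]
    congr 1
    ext c
    refine Eq.trans ?_ (π.commutes c)
    rw [halgV]
    rfl
  let ee : C.presheaf.stalk (genericPoint C) ≅ CommRingCat.of L := e.toCommRingCatIso
  let φ₀ : Spec (C.presheaf.stalk (genericPoint C)) ⟶ V.left := Spec.map ee.inv ≫ zL
  have hstalk : CommRingCat.ofHom (algebraMap K L) ≫ ee.inv =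
      CommRingCat.ofHom (Curv2.stalkMap K C (genericPoint C)) := by
    ext c
    show e.symm (algebraMap K L c) = _
    rw [← he, e.symm_apply_apply]
    rfl
  obtain ⟨U, hηU, γ, hγ, hγS⟩ := spread_out_of_isGermInjective' pC V.hom φ₀ (by
    rw [Category.assoc, hzL, ← Spec.map_comp, hstalk]
    exact (fromSpecStalk_comp_toSpec C (genericPoint C)).symm)
  let CO : Over (Spec (CommRingCat.of K)) := Over.mk pC
  let UO : Over (Spec (CommRingCat.of K)) := Over.mk (U.ι ≫ pC)
  let γO : UO ⟶ V := Over.homMk γ hγS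
  let ιU : UO ⟶ CO := Over.homMk U.ι rfl
  let E : (CO ⊗ W).left.Opens := (fst CO W).left ⁻¹ᵁ U
  let EO : Over (Spec (CommRingCat.of K)) := Over.mk (E.ι ≫ (CO ⊗ W).hom)
  let ιE : EO ⟶ CO ⊗ W := Over.homMk E.ι rfl
  let q₁l : (E : Scheme.{u}) ⟶ (U : Scheme.{u}) := (fst CO W).left ∣_ U
  have hq₁l : q₁l ≫ U.ι = E.ι ≫ (fst CO W).left := morphismRestrict_ι _ _
  let q₁ : EO ⟶ UO := Over.homMk q₁l (by
    show q₁l ≫ U.ι ≫ pC = E.ι ≫ (CO ⊗ W).hom
    rw [reassoc_of% hq₁l, ← Over.w (fst CO W)]
    rfl)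
  let G₀ : EO ⟶ A := lift (q₁ ≫ γO) (ιE ≫ snd CO W) ≫ d
  haveI : Smooth (CO ⊗ W).hom :=
    inferInstanceAs (Smooth (Limits.pullback.fst pC W.hom ≫ pC))
  haveI : IsIntegral (CO ⊗ W).left :=
    inferInstanceAs (IsIntegral (Limits.pullback pC W.hom))
  haveI : GrpObj (Over.mk A.hom) := ‹GrpObj A›
  haveI : Subsingleton ↥(Spec (CommRingCat.of K)) := inferInstanceAs (Subsingleton (PrimeSpectrum K))
  have hEne : (E : Set ↥(CO ⊗ W).left).Nonempty := by
    obtain ⟨z, hz, -⟩ := Scheme.Pullback.exists_preimage_pullback (f := pC) (g := W.hom)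
      (genericPoint C) (genericPoint W.left) (Subsingleton.elim _ _)
    exact ⟨z, show (Limits.pullback.fst pC W.hom) z ∈ U by rw [hz]; exact hηU⟩
  obtain ⟨gl, ⟨hgl, hglE⟩, -⟩ := existsUnique_of_proper (pX := (CO ⊗ W).hom) (pG := A.hom)
    (fibrewiseDense_of_dense (E.2.dense hEne)) G₀.left (Over.w G₀)
  let g : CO ⊗ W ⟶ A := Over.homMk gl hgl
  have hιE : ιE ≫ g = G₀ := Over.OverMorphism.ext hglE
  -- restriction to a slice
  have hslice : ∀ b : 𝟙_ _ ⟶ W, ιU ≫ lift (𝟙 CO) (toUnit CO ≫ b) ≫ g =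
      γO ≫ lift (𝟙 V) (toUnit V ≫ b) ≫ d := fun b => by
    let j : UO ⟶ CO ⊗ W := lift ιU (toUnit UO ≫ b)
    let rl : (U : Scheme.{u}) ⟶ (E : Scheme.{u}) := IsOpenImmersion.lift E.ι j.left (by
      rw [Scheme.Opens.range_ι]
      rintro _ ⟨t, rfl⟩
      show (fst CO W).left (j.left t) ∈ U
      rw [← Scheme.Hom.comp_apply, ← Over.comp_left, lift_fst]
      exact t.2)
    have hrl : rl ≫ E.ι = j.left := IsOpenImmersion.lift_fac _ _ _
    let r : UO ⟶ EO := Over.homMk rl (by
      show rl ≫ E.ι ≫ (CO ⊗ W).hom = _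
      rw [reassoc_of% hrl]
      exact Over.w j)
    have hr : r ≫ ιE = j := Over.OverMorphism.ext hrl
    have hrq : r ≫ q₁ = 𝟙 UO := Over.OverMorphism.ext (by
      show rl ≫ q₁l = 𝟙 _
      rw [← cancel_mono U.ι, Category.assoc, hq₁l, reassoc_of% hrl, ← Over.comp_left, lift_fst]
      simp [ιU])
    have hj : ιU ≫ lift (𝟙 CO) (toUnit CO ≫ b) = j := by
      apply CartesianMonoidalCategory.hom_ext <;> simp [j]
    have hq : r ≫ lift (q₁ ≫ γO) (ιE ≫ snd CO W) = γO ≫ lift (𝟙 V) (toUnit V ≫ b) := by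
      apply CartesianMonoidalCategory.hom_ext
      · simp [reassoc_of% hrq]
      · rw [Category.assoc, lift_snd, ← Category.assoc, hr, lift_snd]
        simp
    rw [reassoc_of% hj, ← hr, Category.assoc, hιE, reassoc_of% hq]
  have haxis : lift (𝟙 CO) (toUnit CO ≫ w₀) ≫ g = toUnit CO ≫ η[A] := by
    apply Over.OverMorphism.ext
    haveI : IsReduced CO.left := inferInstanceAs (IsReduced C)
    let UC : CO.left.Opens := U
    have hUC : Dense (UC : Set CO.left) := (U.2.dense ⟨_, hηU⟩ : Dense (U : Set C))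
    refine ext_dense A.hom ((Over.w _).trans (Over.w _).symm) hUC ?_
    refine congrArg (fun ψ : UO ⟶ A => ψ.left)
      (show ιU ≫ lift (𝟙 CO) (toUnit CO ≫ w₀) ≫ g = ιU ≫ toUnit CO ≫ η[A] from ?_)
    rw [hslice, h₁, ← Hom.one_def, MonObj.comp_one, MonObj.comp_one]
  obtain ⟨c₀p, hc₀⟩ : ∃ x : C, IsClosed ({x} : Set C) := by
    haveI : JacobsonSpace C := LocallyOfFiniteType.jacobsonSpace pC
    obtain ⟨x, hx⟩ := nonempty_inter_closedPoints (X := C) (Z := Set.univ)
      ⟨genericPoint C, trivial⟩ isOpen_univ.isLocallyClosed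
    exact ⟨x, hx.2⟩
  let c₀ : 𝟙_ (Over (Spec (CommRingCat.of K))) ⟶ CO :=
    Over.homMk (pointOfClosedPoint pC c₀p hc₀) (pointOfClosedPoint_comp _ _ hc₀)
  haveI : IsProper CO.hom := hCp
  haveI : IrreducibleSpace CO.left := inferInstanceAs (IrreducibleSpace C)
  have hrig := Groth.Agent.AV.rigidity_algClosed g c₀ w₀ η[A] haxis
  let aA : 𝟙_ _ ⟶ A := w ≫ lift (toUnit W ≫ c₀) (𝟙 W) ≫ g
  have hconst : γO ≫ φ = toUnit UO ≫ aA := by
    rw [hφ, ← hslice w]
    conv_lhs => rw [hrig]
    simp only [aA, ← Category.assoc]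
    congr 1
    apply CartesianMonoidalCategory.hom_ext <;> simp
  have hz : zL ≫ φ.left = Spec.map (CommRingCat.ofHom (algebraMap K L)) ≫ aA.left := by
    have h := congrArg (fun ψ : UO ⟶ A => U.fromSpecStalkOfMem (genericPoint C) hηU ≫ ψ.left) hconst
    simp only [Over.comp_left] at h
    rw [← Category.assoc, show U.fromSpecStalkOfMem (genericPoint C) hηU ≫ γO.left = φ₀ from hγ.symm,
      Over.toUnit_left] at h
    rw [← cancel_epi (Spec.map ee.inv)]
    refine ((Category.assoc _ _ _).symm.trans h).trans ?_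
    show U.fromSpecStalkOfMem (genericPoint C) hηU ≫ (U.ι ≫ pC) ≫ aA.left = _
    rw [Category.assoc, Scheme.Opens.fromSpecStalkOfMem_ι_assoc, ← Category.assoc,
      fromSpecStalk_comp_toSpec, ← hstalk, Spec.map_comp, Category.assoc]
  -- the value is a rational point of `D`
  have hzD : zL ≫ φ.left = Spec.map (φ.left.appLE D V' hV'D ≫ CommRingCat.ofHom π.toRingHom) ≫
      hD.fromSpec := by
    rw [Spec.map_comp, Category.assoc, Category.assoc, IsAffineOpen.SpecMap_appLE_fromSpec φ.left hD hV' hV'D]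
  haveI : Subsingleton ↥(𝟙_ (Over (Spec (CommRingCat.of K)))).left :=
    inferInstanceAs (Subsingleton (PrimeSpectrum K))
  have haD : Set.range aA.left ⊆ Set.range hD.fromSpec := by
    rintro _ ⟨t, rfl⟩
    let p : Spec (CommRingCat.of L) := (⟨⊥, Ideal.isPrime_bot⟩ : PrimeSpectrum L)
    have : aA.left t = (Spec.map (CommRingCat.ofHom (algebraMap K L)) ≫ aA.left) p := by
      rw [Scheme.Hom.comp_apply]
      exact congrArg _ (Subsingleton.elim _ _)
    rw [this, ← hz, hzD, Scheme.Hom.comp_apply]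
    exact ⟨_, rfl⟩
  let χ : Γ(A.left, D) ⟶ CommRingCat.of K := Spec.preimage (IsOpenImmersion.lift hD.fromSpec aA.left haD)
  have hχ : φ.left.appLE D V' hV'D ≫ CommRingCat.ofHom π.toRingHom =
      χ ≫ CommRingCat.ofHom (algebraMap K L) := by
    apply Spec.map_injective
    rw [← cancel_mono hD.fromSpec, ← hzD, hz, Spec.map_comp, Category.assoc]
    congr 1
    rw [Spec.map_preimage]
    exact (IsOpenImmersion.lift_fac _ _ _).symm
  apply hπ
  rw [show π ((φ.left.appLE D V' hV'D).hom a) = algebraMap K L (χ.hom a) from congr(($hχ).hom a)]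
  exact isAlgebraic_algebraMap _

/-- On a smooth variety over an algebraically closed field, a morphism to a proper group which, as a
family, is trivial on the axes, is trivial. -/
theorem eq_one_of_axes_algClosed [IsAlgClosed K] {V W A : Over (Spec (CommRingCat.of K))}
    [Smooth V.hom] [IsSeparated V.hom] [QuasiCompact V.hom] [IsIntegral V.left]
    [Smooth W.hom] [IsSeparated W.hom] [QuasiCompact W.hom] [GeometricallyIntegral W.hom]
    [GrpObj A] [IsProper A.hom]
    (d : V ⊗ W ⟶ A) (v₀ : 𝟙_ _ ⟶ V) (w₀ : 𝟙_ _ ⟶ W)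
    (h₁ : lift (𝟙 V) (toUnit V ≫ w₀) ≫ d = 1) (h₂ : lift (toUnit W ≫ v₀) (𝟙 W) ≫ d = 1) : d = 1 := by
  haveI : IsIntegral W.left := GeometricallyIntegral.isIntegral_of_subsingleton W.hom
  haveI : IsLocallyNoetherian V.left := LocallyOfFiniteType.isLocallyNoetherian V.hom
  haveI : IsIntegral (V ⊗ W).left := by dsimp only [Over.tensorObj_left]; infer_instance
  haveI : GrpObj (Over.mk A.hom) := ‹GrpObj A›
  haveI : LocallyOfFiniteType (V ⊗ W).hom := by dsimp; infer_instance
  -- it suffices that each slice is constant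
  suffices hslice : ∀ w : 𝟙_ (Over (Spec (CommRingCat.of K))) ⟶ W, ∀ v : 𝟙_ _ ⟶ V,
      v ≫ lift (𝟙 V) (toUnit V ≫ w) ≫ d = 1 by
    apply Over.OverMorphism.ext
    haveI : LocallyOfFiniteType (d.left ≫ A.hom) := by rw [Over.w d]; infer_instance
    refine ext_of_apply_eq A.hom Set.univ isOpen_univ.isLocallyClosed dense_univ (fun p _ hp => ?_)
      ((Over.w d).trans (Over.w _).symm)
    let c : 𝟙_ (Over (Spec (CommRingCat.of K))) ⟶ V ⊗ W :=
      Over.homMk (pointOfClosedPoint (V ⊗ W).hom p hp) (pointOfClosedPoint_comp _ _ hp)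
    have hcd : c ≫ d = c ≫ (1 : V ⊗ W ⟶ A) := by
      have hc : c = (c ≫ fst V W) ≫ lift (𝟙 V) (toUnit V ≫ c ≫ snd V W) := by
        apply CartesianMonoidalCategory.hom_ext
        · simp
        · rw [Category.assoc, lift_snd, ← Category.assoc, comp_toUnit, toUnit_unique (toUnit (𝟙_ _)) (𝟙 _),
            Category.id_comp]
      rw [MonObj.comp_one]
      conv_lhs => rw [hc, Category.assoc]
      exact hslice _ _
    have := congrArg (fun φ => φ.left (IsLocalRing.closedPoint K)) hcd
    simp only [Over.comp_left, Scheme.Hom.comp_apply] at this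
    rw [show c.left (IsLocalRing.closedPoint K) = p from pointOfClosedPoint_apply _ _ hp _] at this
    exact this
  intro w v
  let φ : V ⟶ A := lift (𝟙 V) (toUnit V ≫ w) ≫ d
  change v ≫ φ = 1
  -- `φ` has constant value at the base point
  have hv₀ : v₀ ≫ φ = 1 := by
    have : v₀ ≫ lift (𝟙 V) (toUnit V ≫ w) = w ≫ lift (toUnit W ≫ v₀) (𝟙 W) := by
      apply CartesianMonoidalCategory.hom_ext <;> simp
    rw [← Category.assoc, this, Category.assoc, h₂, MonObj.comp_one]
  by_cases hcl : IsClosed ({φ.left (genericPoint V.left)} : Set A.left)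
  · -- constant
    have hall : ∀ p : V.left, φ.left p = φ.left (genericPoint V.left) := fun p => by
      have hs : φ.left (genericPoint V.left) ⤳ φ.left p :=
        ((genericPoint_spec V.left).specializes trivial).map φ.left.continuous
      exact hs.mem_closed hcl rfl
    apply Over.OverMorphism.ext
    refine ext_of_apply_closedPoint_eq A.hom (Over.w (v ≫ φ)) (Over.w _) ?_
    rw [Over.comp_left, Scheme.Hom.comp_apply, hall, ← hall (v₀.left (IsLocalRing.closedPoint K)),
      ← Scheme.Hom.comp_apply, ← Over.comp_left, hv₀]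
  -- otherwise, a curve on which `φ` is not constant
  exfalso
  obtain ⟨_, ⟨D₀, hD, rfl⟩, hηD, -⟩ := A.left.isBasis_affineOpens.exists_subset_of_mem_open
    (Set.mem_univ (φ.left (genericPoint V.left))) isOpen_univ
  let D : A.left.Opens := D₀
  have hDaff : IsAffineOpen D := hD
  obtain ⟨_, ⟨V₁, hV₁, rfl⟩, hηV₁, hV₁D⟩ := V.left.isBasis_affineOpens.exists_subset_of_mem_open
    (show genericPoint V.left ∈ (φ.left ⁻¹ᵁ D : V.left.Opens) from hηD) (φ.left ⁻¹ᵁ D).2
  let V' : V.left.Opens := V₁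
  have hV' : IsAffineOpen V' := hV₁
  haveI : Nonempty (V' : Scheme.{u}) := ⟨⟨_, hηV₁⟩⟩
  haveI : IsIntegral (V' : Scheme.{u}) := isIntegral_of_isOpenImmersion V'.ι
  haveI : IsDomain Γ(V.left, V') := IsIntegral.component_integral V'
  let ρ : K →+* Γ(V.left, V') :=
    ((Scheme.ΓSpecIso (CommRingCat.of K)).inv ≫ V.hom.appLE ⊤ V' le_top).hom
  let σ : K →+* Γ(A.left, D) :=
    ((Scheme.ΓSpecIso (CommRingCat.of K)).inv ≫ A.hom.appLE ⊤ D le_top).hom
  let θ : Γ(A.left, D) →+* Γ(V.left, V') := (φ.left.appLE D V' hV₁D).hom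
  have hθ : θ.comp σ = ρ := by
    have e : A.hom.appLE ⊤ D le_top ≫ φ.left.appLE D V' hV₁D = V.hom.appLE ⊤ V' le_top := by
      rw [Scheme.Hom.appLE_comp_appLE]
      simp [Over.w]
    ext a
    exact congr(($e).hom ((Scheme.ΓSpecIso (CommRingCat.of K)).inv a))
  letI := ρ.toAlgebra
  haveI : Algebra.FiniteType K Γ(V.left, V') := by
    refine RingHom.finiteType_algebraMap.mp (RingHom.finiteType_respectsIso.2 _
      (Scheme.ΓSpecIso (CommRingCat.of K)).symm.commRingCatIsoToRingEquiv ?_)
    exact HasRingHomProperty.appLE @LocallyOfFiniteType V.hom inferInstance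
      ⟨⊤, isAffineOpen_top _⟩ ⟨V', hV'⟩ le_top
  obtain ⟨a, ha⟩ : ∃ a, θ a ∉ (algebraMap K Γ(V.left, V')).range := by
    by_contra hall
    simp only [not_exists, not_not] at hall
    refine hcl ?_
    have hker : (RingHom.ker θ).IsMaximal := by
      have hsurj : Function.Surjective (θ.codRestrict (algebraMap K Γ(V.left, V')).range hall) := by
        rintro ⟨_, c, rfl⟩
        exact ⟨σ c, Subtype.ext (congrFun (congrArg DFunLike.coe hθ) c)⟩
      have hkereq : RingHom.ker (θ.codRestrict (algebraMap K Γ(V.left, V')).range hall) = RingHom.ker θ := by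
        ext b; simp [RingHom.mem_ker, Subtype.ext_iff]
      rw [← hkereq]
      have hbij : Function.Bijective (algebraMap K Γ(V.left, V')).rangeRestrict :=
        ⟨fun x y hxy => RingHom.injective _ (congrArg Subtype.val hxy),
          (algebraMap K Γ(V.left, V')).rangeRestrict_surjective⟩
      haveI : IsField ((algebraMap K Γ(V.left, V')).range) :=
        MulEquiv.isField (Field.toIsField K) (RingEquiv.ofBijective _ hbij).symm.toMulEquiv
      letI := this.toField
      exact RingHom.ker_isMaximal_of_surjective _ hsurj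
    have hgen : hV'.fromSpec (⊥ : PrimeSpectrum Γ(V.left, V')) = genericPoint V.left := by
      refine ((genericPoint_spec V.left).eq ?_).symm
      have h0 : IsGenericPoint (⊥ : PrimeSpectrum Γ(V.left, V')) Set.univ := by
        rw [isGenericPoint_iff_specializes]
        exact fun p => iff_of_true ((PrimeSpectrum.le_iff_specializes _ p).mp bot_le) trivial
      have h1 := h0.image hV'.fromSpec.continuous
      have h2 : closure (Set.range hV'.fromSpec) = Set.univ := by
        rw [hV'.range_fromSpec]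
        exact (V'.2.dense ⟨_, hηV₁⟩).closure_eq
      rw [Set.image_univ] at h1
      rw [← h2]
      exact h1
    have hpt : φ.left (genericPoint V.left) = hDaff.fromSpec
        (⟨RingHom.ker θ, hker.isPrime⟩ : PrimeSpectrum Γ(A.left, D)) := by
      rw [← hgen, ← Scheme.Hom.comp_apply, ← IsAffineOpen.SpecMap_appLE_fromSpec φ.left hDaff hV' hV₁D,
        Scheme.Hom.comp_apply]
      exact congrArg _ (PrimeSpectrum.ext rfl)
    rw [hpt]
    haveI : JacobsonSpace A.left := LocallyOfFiniteType.jacobsonSpace A.hom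
    refine isClosed_singleton_of_isLocallyClosed_singleton ?_
    have hq : IsClosed ({(⟨RingHom.ker θ, hker.isPrime⟩ : PrimeSpectrum Γ(A.left, D))} : Set _) :=
      (PrimeSpectrum.isClosed_singleton_iff_isMaximal _).mpr hker
    simpa [Set.image_singleton] using hq.isLocallyClosed.image hDaff.fromSpec.isEmbedding.isInducing
      hDaff.fromSpec.isOpenEmbedding.isOpen_range.isLocallyClosed
  set t : Γ(V.left, V') := θ a with ht
  have htr : Transcendental K t := by
    intro halg
    have hint : IsIntegral K t := halg.isIntegral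
    exact ha (minpoly.degree_eq_one_iff.mp (IsAlgClosed.degree_eq_one_of_irreducible K (minpoly.irreducible hint)))
  -- a field of transcendence degree one in which `t` is transcendental
  let M : Submonoid Γ(V.left, V') :=
    (nonZeroDivisors (Polynomial K)).map (Polynomial.aeval t).toRingHom.toMonoidHom
  have hM : M ≤ nonZeroDivisors Γ(V.left, V') := by
    rintro _ ⟨p, hp, rfl⟩
    exact mem_nonZeroDivisors_of_ne_zero fun h0 =>
      nonZeroDivisors.ne_zero hp ((transcendental_iff.mp htr) p h0)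
  let B := Localization M
  haveI : IsDomain B := IsLocalization.isDomain_localization hM
  obtain ⟨m, hm⟩ := Ideal.exists_maximal B
  let L := B ⧸ m
  letI : Field L := Ideal.Quotient.field m
  let π : Γ(V.left, V') →ₐ[K] L := (Ideal.Quotient.mkₐ K m).comp (IsScalarTower.toAlgHom K _ B)
  have htL : Transcendental K (π t) := by
    rw [transcendental_iff]
    intro p hp
    by_contra hp0
    rw [Polynomial.aeval_algHom_apply] at hp
    have hu : IsUnit (algebraMap Γ(V.left, V') B (Polynomial.aeval t p)) :=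
      IsLocalization.map_units B (⟨_, ⟨p, mem_nonZeroDivisors_of_ne_zero hp0, rfl⟩⟩ : M)
    exact (hu.map (Ideal.Quotient.mk m)).ne_zero hp
  obtain ⟨hfg, htd⟩ := finiteData t htr π htL fun l => by
    obtain ⟨b, rfl⟩ := Ideal.Quotient.mk_surjective l
    obtain ⟨⟨x, ⟨_, p, hp, rfl⟩⟩, hx⟩ := IsLocalization.surj M b
    exact ⟨x, p, nonZeroDivisors.ne_zero hp,
      by simpa [π] using congrArg (Ideal.Quotient.mk m) hx⟩
  obtain ⟨C, instC, instI, hCp, hCn, hCd, e, he⟩ := Groth.Agent.S2345.result K L hfg htd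
  exact curve_contradiction d w₀ h₁ w φ rfl hDaff hV' hV₁D rfl a π htL C hCp hCn hCd e he

end Groth.L26.Weil
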