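/-
Rigidity for products of smooth varieties over an arbitrary field.
-/
import Groth.Agent.L26.Weil.Axes

set_option autoImplicit false
set_option linter.style.haveILetI false
set_option backward.defeqAttrib.useBackward true
set_option backward.isDefEq.respectTransparency false

open CategoryTheory CategoryTheory.Limits MonoidalCategory CartesianMonoidalCategory MonObj GrpObj
  AlgebraicGeometry

universe u

namespace Groth.L26.Weil

variable {K : Type u} [Field K]

open Functor in
/-- A morphism from a product of smooth varieties to a proper group, trivial on the axes, is trivial. -/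
theorem eq_one_of_axes {V W A : Over (Spec (CommRingCat.of K))}
    [Smooth V.hom] [IsSeparated V.hom] [QuasiCompact V.hom] [GeometricallyIntegral V.hom]
    [Smooth W.hom] [IsSeparated W.hom] [QuasiCompact W.hom] [GeometricallyIntegral W.hom]
    [GrpObj A] [IsProper A.hom]
    (d : V ⊗ W ⟶ A) (v₀ : 𝟙_ _ ⟶ V) (w₀ : 𝟙_ _ ⟶ W)
    (h₁ : lift (𝟙 V) (toUnit V ≫ w₀) ≫ d = 1) (h₂ : lift (toUnit W ≫ v₀) (𝟙 W) ≫ d = 1) : d = 1 := by
  let b := Spec.map (CommRingCat.ofHom <| algebraMap K (AlgebraicClosure K))
  let F := Over.pullback b
  have : Smooth (F.obj V).hom := by dsimp [F]; infer_instance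
  have : Smooth (F.obj W).hom := by dsimp [F]; infer_instance
  have : IsSeparated (F.obj V).hom := by dsimp [F]; infer_instance
  have : IsSeparated (F.obj W).hom := by dsimp [F]; infer_instance
  have : QuasiCompact (F.obj V).hom := by dsimp [F]; infer_instance
  have : QuasiCompact (F.obj W).hom := by dsimp [F]; infer_instance
  have : GeometricallyIntegral (F.obj V).hom := by dsimp [F]; infer_instance
  have : GeometricallyIntegral (F.obj W).hom := by dsimp [F]; infer_instance
  have : IsProper (F.obj A).hom := by dsimp [F]; infer_instance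
  have : IsIntegral (F.obj V).left := GeometricallyIntegral.isIntegral_of_subsingleton (F.obj V).hom
  letI : GrpObj (F.obj A) := Functor.grpObjObj
  have hone : ∀ Z : Over (Spec (CommRingCat.of K)), F.map (1 : Z ⟶ A) = (1 : F.obj Z ⟶ F.obj A) :=
    fun Z => by
      rw [Hom.one_def, F.map_comp, Groth.Agent.AV.map_toUnit, Category.assoc]
      rfl
  have key := eq_one_of_axes_algClosed (LaxMonoidal.μ F V W ≫ F.map d) (LaxMonoidal.ε F ≫ F.map v₀)
    (LaxMonoidal.ε F ≫ F.map w₀) (by
      simp only [← Category.assoc, ← Groth.Agent.AV.map_toUnit, ← Functor.map_comp]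
      rw [← F.map_id V, Monoidal.lift_μ, ← Functor.map_comp, h₁, hone]) (by
      simp only [← Category.assoc, ← Groth.Agent.AV.map_toUnit, ← Functor.map_comp]
      rw [← F.map_id W, Monoidal.lift_μ, ← Functor.map_comp, h₂, hone])
  have key' : F.map d = F.map (1 : V ⊗ W ⟶ A) := by
    rw [← cancel_epi (LaxMonoidal.μ F V W), key, hone, MonObj.comp_one]
  exact F.map_injective key'

end Groth.L26.Weil
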