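/-
Morphisms from (open subschemes of) affine spaces into proper groups are constant.
-/
import Groth.Agent.L26.Weil.AxesField
import Mathlib.AlgebraicGeometry.AffineSpace

set_option autoImplicit false
set_option linter.style.haveILetI false
set_option backward.isDefEq.respectTransparency.types false

open CategoryTheory CategoryTheory.Limits MonoidalCategory CartesianMonoidalCategory MonObj GrpObj
  AlgebraicGeometry

universe u

namespace Groth.L26.Weil

variable {K : Type u} [Field K]

theorem smooth_affineSpace (n : Type u) [Finite n] (S : Scheme.{u}) : Smooth (𝔸(n; S) ↘ S) :=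
  MorphismProperty.pullback_fst _ _ <| by
  have := isIso_of_isTerminal specULiftZIsTerminal.{u} terminalIsTerminal (terminal.from _)
  rw [← terminal.comp_from (Spec.map (CommRingCat.ofHom MvPolynomial.C)),
    MorphismProperty.cancel_right_of_respectsIso (P := @Smooth),
    HasRingHomProperty.Spec_iff (P := @Smooth), RingHom.Smooth]
  convert! (⟨inferInstance, inferInstance⟩ : Algebra.Smooth (ULift.{u} ℤ) (MvPolynomial n (ULift.{u} ℤ)))
  exact Algebra.algebra_ext _ _ fun _ ↦ rfl

/-- Affine space as a `K`-scheme. -/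
noncomputable abbrev aff (K : Type u) [Field K] (n : Type u) : Over (Spec (CommRingCat.of K)) :=
  Over.mk (𝔸(n; Spec (CommRingCat.of K)) ↘ Spec (CommRingCat.of K))

/-- The point with given constant coordinates. -/
noncomputable def affPt {n : Type u} (c : n → Γ(Spec (CommRingCat.of K), ⊤)) :
    𝟙_ (Over (Spec (CommRingCat.of K))) ⟶ aff K n :=
  Over.homMk (AffineSpace.homOfVector (𝟙 _) c) (AffineSpace.homOfVector_over _ _)

/-- Scalar multiplication. -/
noncomputable def scal (n : Type u) : aff K PUnit.{u + 1} ⊗ aff K n ⟶ aff K n :=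
  Over.homMk (AffineSpace.homOfVector (aff K PUnit.{u + 1} ⊗ aff K n).hom fun i =>
    (fst (aff K PUnit.{u + 1}) (aff K n)).left.appTop
        (AffineSpace.coord (Spec (CommRingCat.of K)) PUnit.unit) *
      (snd (aff K PUnit.{u + 1}) (aff K n)).left.appTop (AffineSpace.coord (Spec (CommRingCat.of K)) i))
    (AffineSpace.homOfVector_over _ _)

theorem appTop_comp_apply {X Y Z : Scheme.{u}} (f : X ⟶ Y) (g : Y ⟶ Z) (a : Γ(Z, ⊤)) :
    (f ≫ g).appTop a = f.appTop (g.appTop a) := by
  simp [Scheme.Hom.comp_appTop]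

theorem over_appTop_comp {T T' T'' : Over (Spec (CommRingCat.of K))} (f : T ⟶ T') (g : T' ⟶ T'')
    (a : Γ(T''.left, ⊤)) : (f ≫ g).left.appTop a = f.left.appTop (g.left.appTop a) :=
  appTop_comp_apply f.left g.left a

theorem scal_coord {T : Over (Spec (CommRingCat.of K))} {n : Type u}
    (t : T ⟶ aff K PUnit.{u + 1}) (x : T ⟶ aff K n) (i : n) :
    (lift t x ≫ scal n).left.appTop (AffineSpace.coord (Spec (CommRingCat.of K)) i) =
      t.left.appTop (AffineSpace.coord (Spec (CommRingCat.of K)) PUnit.unit) *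
        x.left.appTop (AffineSpace.coord (Spec (CommRingCat.of K)) i) := by
  rw [over_appTop_comp]
  have h : (scal (K := K) n).left.appTop (AffineSpace.coord (Spec (CommRingCat.of K)) i) =
      (fst (aff K PUnit.{u + 1}) (aff K n)).left.appTop
          (AffineSpace.coord (Spec (CommRingCat.of K)) PUnit.unit) *
        (snd (aff K PUnit.{u + 1}) (aff K n)).left.appTop (AffineSpace.coord (Spec (CommRingCat.of K)) i) :=
    AffineSpace.homOfVector_appTop_coord _ _ _
  erw [h, map_mul]
  exact congrArg₂ (· * ·)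
    ((over_appTop_comp _ _ _).symm.trans
      (congrArg (fun φ : T ⟶ _ => φ.left.appTop (AffineSpace.coord (Spec (CommRingCat.of K)) PUnit.unit))
        (lift_fst t x)))
    ((over_appTop_comp _ _ _).symm.trans
      (congrArg (fun φ : T ⟶ _ => φ.left.appTop (AffineSpace.coord (Spec (CommRingCat.of K)) i))
        (lift_snd t x)))

theorem affPt_coord {T : Over (Spec (CommRingCat.of K))} {n : Type u}
    (c : n → Γ(Spec (CommRingCat.of K), ⊤)) (i : n) :
    (toUnit T ≫ affPt c).left.appTop (AffineSpace.coord (Spec (CommRingCat.of K)) i) =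
      T.hom.appTop (c i) := by
  rw [over_appTop_comp]
  have h : (affPt (K := K) c).left.appTop (AffineSpace.coord (Spec (CommRingCat.of K)) i) = c i :=
    AffineSpace.homOfVector_appTop_coord _ _ _
  rw [h, Over.toUnit_left]

theorem scal_one {T : Over (Spec (CommRingCat.of K))} {n : Type u} (x : T ⟶ aff K n) :
    lift (toUnit T ≫ affPt (fun _ => 1)) x ≫ scal n = x := by
  apply Over.OverMorphism.ext
  refine AffineSpace.hom_ext ((Over.w _).trans (Over.w x).symm) fun i => ?_
  rw [scal_coord, affPt_coord, map_one, _root_.one_mul]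

theorem scal_zero {T : Over (Spec (CommRingCat.of K))} {n : Type u}
    (t : T ⟶ aff K PUnit.{u + 1}) :
    lift t (toUnit T ≫ affPt (fun _ : n => 0)) ≫ scal n = toUnit T ≫ affPt (fun _ : n => 0) := by
  apply Over.OverMorphism.ext
  refine AffineSpace.hom_ext ((Over.w _).trans (Over.w _).symm) fun i => ?_
  rw [scal_coord, affPt_coord, map_zero, MulZeroClass.mul_zero]

theorem zero_scal {T : Over (Spec (CommRingCat.of K))} {n : Type u} (x : T ⟶ aff K n) :
    lift (toUnit T ≫ affPt (fun _ => 0)) x ≫ scal n = toUnit T ≫ affPt (fun _ : n => 0) := by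
  apply Over.OverMorphism.ext
  refine AffineSpace.hom_ext ((Over.w _).trans (Over.w _).symm) fun i => ?_
  rw [scal_coord, affPt_coord, affPt_coord, map_zero, MulZeroClass.zero_mul]

/-- A morphism from affine space to a proper group is constant. -/
theorem affineSpace_const {A : Over (Spec (CommRingCat.of K))} [GrpObj A] [IsProper A.hom]
    {n : Type u} [Finite n] (g : aff K n ⟶ A) :
    g = toUnit (aff K n) ≫ affPt (fun _ => 0) ≫ g := by
  haveI := smooth_affineSpace n (Spec (CommRingCat.of K))
  haveI := smooth_affineSpace PUnit.{u + 1} (Spec (CommRingCat.of K))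
  let T := aff K PUnit.{u + 1}
  let V := aff K n
  haveI : Smooth T.hom := smooth_affineSpace PUnit.{u + 1} (Spec (CommRingCat.of K))
  haveI : Smooth V.hom := smooth_affineSpace n (Spec (CommRingCat.of K))
  haveI : IsSeparated T.hom := inferInstanceAs (IsSeparated (𝔸(PUnit.{u + 1}; Spec (CommRingCat.of K)) ↘ Spec (CommRingCat.of K)))
  haveI : IsSeparated V.hom := inferInstanceAs (IsSeparated (𝔸(n; Spec (CommRingCat.of K)) ↘ Spec (CommRingCat.of K)))
  haveI : QuasiCompact T.hom := inferInstanceAs (QuasiCompact (𝔸(PUnit.{u + 1}; Spec (CommRingCat.of K)) ↘ Spec (CommRingCat.of K)))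
  haveI : QuasiCompact V.hom := inferInstanceAs (QuasiCompact (𝔸(n; Spec (CommRingCat.of K)) ↘ Spec (CommRingCat.of K)))
  haveI : GeometricallyIntegral T.hom := inferInstanceAs (GeometricallyIntegral (𝔸(PUnit.{u + 1}; Spec (CommRingCat.of K)) ↘ Spec (CommRingCat.of K)))
  haveI : GeometricallyIntegral V.hom := inferInstanceAs (GeometricallyIntegral (𝔸(n; Spec (CommRingCat.of K)) ↘ Spec (CommRingCat.of K)))
  let t₁ : 𝟙_ _ ⟶ T := affPt (fun _ => 1)
  let t₀ : 𝟙_ _ ⟶ T := affPt (fun _ => 0)
  let x₀ : 𝟙_ _ ⟶ V := affPt (fun _ => 0)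
  let d : T ⊗ V ⟶ A := (scal n ≫ g) * (snd T V ≫ g)⁻¹
  have hd : d = 1 := by
    refine eq_one_of_axes d t₁ x₀ ?_ ?_
    · simp only [d, MonObj.comp_mul, GrpObj.comp_inv, lift_snd_assoc]
      rw [← Category.assoc _ (scal n), scal_zero, mul_inv_cancel]
    · simp only [d, MonObj.comp_mul, GrpObj.comp_inv, lift_snd_assoc]
      rw [← Category.assoc _ (scal n), scal_one, Category.id_comp, mul_inv_cancel]
  have h := congrArg (fun φ => lift (toUnit V ≫ t₀) (𝟙 V) ≫ φ) hd
  simp only [d, MonObj.comp_mul, GrpObj.comp_inv, lift_snd_assoc, Category.id_comp, MonObj.comp_one,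
    mul_inv_eq_one] at h
  rw [← Category.assoc _ (scal n), zero_scal, Category.assoc] at h
  exact h.symm

/-- A morphism from a nonempty open of affine space to a proper group is constant. -/
theorem open_affineSpace_const {A : Over (Spec (CommRingCat.of K))} [GrpObj A] [IsProper A.hom]
    {n : Type u} [Finite n] (U : (𝔸(n; Spec (CommRingCat.of K))).Opens)
    (hU : (U : Set ↥(𝔸(n; Spec (CommRingCat.of K)))).Nonempty) (g : (U : Scheme.{u}) ⟶ A.left)
    (hg : g ≫ A.hom = U.ι ≫ (𝔸(n; Spec (CommRingCat.of K)) ↘ Spec (CommRingCat.of K))) :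
    ∃ a : 𝟙_ (Over (Spec (CommRingCat.of K))) ⟶ A,
      g = (U.ι ≫ (𝔸(n; Spec (CommRingCat.of K)) ↘ Spec (CommRingCat.of K))) ≫ a.left := by
  haveI := smooth_affineSpace n (Spec (CommRingCat.of K))
  haveI : GrpObj (Over.mk A.hom) := ‹GrpObj A›
  haveI : Subsingleton ↥(Spec (CommRingCat.of K)) := inferInstanceAs (Subsingleton (PrimeSpectrum K))
  obtain ⟨G, ⟨hG1, hG2⟩, -⟩ := existsUnique_of_proper (pX := 𝔸(n; Spec (CommRingCat.of K)) ↘ Spec (CommRingCat.of K))
    (pG := A.hom) (fibrewiseDense_of_dense (U.2.dense hU)) g hg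
  refine ⟨affPt (fun _ => 0) ≫ (Over.homMk G hG1 : aff K n ⟶ A), ?_⟩
  have h := congrArg (fun φ : aff K n ⟶ A => φ.left) (affineSpace_const (Over.homMk G hG1 : aff K n ⟶ A))
  simp only [Over.comp_left, Over.homMk_left, Over.toUnit_left] at h ⊢
  rw [← hG2, Category.assoc]
  conv_lhs => rw [h]
  rfl

end Groth.L26.Weil
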