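/-
Morphisms on the generic fibre of a smooth scheme over a Dedekind domain into a proper group scheme
extend.
-/
import Groth.Agent.L26.Weil.Apply
import Mathlib.RingTheory.DedekindDomain.Dvr

set_option autoImplicit false
set_option linter.style.haveILetI false
set_option backward.isDefEq.respectTransparency.types false

open CategoryTheory CategoryTheory.Limits AlgebraicGeometry MonObj

universe u

namespace Groth.L26.Weil

variable {R : Type u} [CommRing R] [IsDomain R]

local notation "gen" => Spec.map (CommRingCat.ofHom (algebraMap R (FractionRing R)))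

theorem range_gen : Set.range (gen) = {(⟨⊥, Ideal.isPrime_bot⟩ : PrimeSpectrum R)} := by
  ext p
  refine ⟨?_, fun hp => ⟨(⟨⊥, Ideal.isPrime_bot⟩ : PrimeSpectrum (FractionRing R)), ?_⟩⟩
  · rintro ⟨t, rfl⟩
    refine PrimeSpectrum.ext ?_
    show t.asIdeal.comap (algebraMap R (FractionRing R)) = ⊥
    rw [(Ideal.eq_bot_of_prime t.asIdeal)]
    exact (RingHom.injective_iff_ker_eq_bot _).mp (IsFractionRing.injective R (FractionRing R))
  · rw [Set.mem_singleton_iff.mp hp]
    refine PrimeSpectrum.ext ?_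
    show (⊥ : Ideal (FractionRing R)).comap (algebraMap R (FractionRing R)) = ⊥
    exact (RingHom.injective_iff_ker_eq_bot _).mp (IsFractionRing.injective R (FractionRing R))

variable {X : Scheme.{u}} (pX : X ⟶ Spec (CommRingCat.of R))

theorem dense_range_fst [UniversallyOpen pX] : Dense (Set.range (pullback.fst pX gen)) := by
  rw [Scheme.Pullback.range_fst, range_gen]
  refine Dense.preimage ?_ pX.isOpenMap
  intro p
  exact specializes_iff_mem_closure.mp
    ((PrimeSpectrum.le_iff_specializes (⟨⊥, Ideal.isPrime_bot⟩ : PrimeSpectrum R) p).mp bot_le)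

/-- Morphisms on an open of `X` agreeing on the generic fibre are equal. -/
theorem ext_generic [UniversallyOpen pX] [IsReduced X] {G : Scheme.{u}}
    (pG : G ⟶ Spec (CommRingCat.of R)) [IsSeparated pG] {T : Scheme.{u}} (i : T ⟶ X)
    [IsOpenImmersion i] (g g' : T ⟶ G) (h : g ≫ pG = g' ≫ pG)
    (h' : ∀ {Z : Scheme.{u}} (a : Z ⟶ T) (b : Z ⟶ pullback pX gen),
      a ≫ i = b ≫ pullback.fst pX gen → a ≫ g = a ≫ g') : g = g' := by
  haveI : IsReduced T := isReduced_of_isOpenImmersion i
  haveI : IsDominant (pullback.fst i (pullback.fst pX gen)) := ⟨by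
    rw [DenseRange, Scheme.Pullback.range_fst]
    exact (dense_range_fst pX).preimage i.isOpenEmbedding.isOpenMap⟩
  exact ext_of_isDominant_of_isSeparated pG h (pullback.fst i (pullback.fst pX gen))
    (h' _ _ pullback.condition)

/-- A morphism on the generic fibre extends to an open neighbourhood. -/
theorem exists_spread [Smooth pX] [IsNoetherianRing R] [IsReduced X] [IsReduced (pullback pX gen)]
    {G : Scheme.{u}} (pG : G ⟶ Spec (CommRingCat.of R))
    [IsSeparated pG] [LocallyOfFiniteType pG]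
    (hdom : ∀ x : X, IsDomain (X.presheaf.stalk x))
    (u : pullback pX gen ⟶ G) (hu : u ≫ pG = pullback.fst pX gen ≫ pX) :
    ∃ (U : X.Opens) (f : (U : Scheme.{u}) ⟶ G), f ≫ pG = U.ι ≫ pX ∧
      Set.range (pullback.fst pX gen) ⊆ U ∧
      ∀ {Z : Scheme.{u}} (a : Z ⟶ (U : Scheme.{u})) (b : Z ⟶ pullback pX gen),
        a ≫ U.ι = b ≫ pullback.fst pX gen → a ≫ f = b ≫ u := by
  haveI : IsLocallyNoetherian X := LocallyOfFiniteType.isLocallyNoetherian pX
  haveI : IsPreimmersion gen := IsPreimmersion.of_isLocalization (nonZeroDivisors R)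
  have loc : ∀ w : ↥(pullback pX gen), ∃ (V : X.Opens) (fV : (V : Scheme.{u}) ⟶ G),
      pullback.fst pX gen w ∈ V ∧ fV ≫ pG = V.ι ≫ pX ∧
      ∀ {Z : Scheme.{u}} (a : Z ⟶ (V : Scheme.{u})) (b : Z ⟶ pullback pX gen),
        a ≫ V.ι = b ≫ pullback.fst pX gen → a ≫ fV = b ≫ u := by
    intro w
    let x := pullback.fst pX gen w
    haveI := hdom x
    let ρ : CommRingCat.of R ⟶ X.presheaf.stalk x := Spec.preimage (X.fromSpecStalk x ≫ pX)
    have hρ : Spec.map ρ = X.fromSpecStalk x ≫ pX := Spec.map_preimage _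
    have hx : pX x ∈ Set.range (gen) := ⟨pullback.snd pX gen w, by
      rw [← Scheme.Hom.comp_apply, ← pullback.condition, Scheme.Hom.comp_apply]⟩
    rw [range_gen] at hx
    have hunit : ∀ r : R, r ≠ 0 → IsUnit (ρ.hom r) := fun r hr => by
      by_contra hn
      obtain ⟨M, hM, hrM⟩ := exists_max_ideal_of_mem_nonunits hn
      let t : PrimeSpectrum (X.presheaf.stalk x) := ⟨M, hM.isPrime⟩
      have ht : X.fromSpecStalk x t ⤳ x := by
        have : X.fromSpecStalk x t ∈ Set.range (X.fromSpecStalk x) := ⟨t, rfl⟩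
        rwa [Scheme.range_fromSpecStalk] at this
      have ht' : Spec.map ρ t ⤳ (⟨⊥, Ideal.isPrime_bot⟩ : PrimeSpectrum R) := by
        rw [hρ, Scheme.Hom.comp_apply]
        exact (ht.map pX.continuous).trans (specializes_of_eq hx)
      have hle := (PrimeSpectrum.le_iff_specializes (Spec.map ρ t) _).mpr ht'
      exact hr (Ideal.mem_bot.mp (hle hrM))
    let ρK : FractionRing R →+* X.presheaf.stalk x :=
      IsLocalization.lift (M := nonZeroDivisors R) (g := ρ.hom) fun r =>
        hunit r (nonZeroDivisors.coe_ne_zero r)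
    have hρK : CommRingCat.ofHom (algebraMap R (FractionRing R)) ≫ CommRingCat.ofHom ρK = ρ :=
      CommRingCat.hom_ext (IsLocalization.lift_comp _)
    let L : Spec (X.presheaf.stalk x) ⟶ pullback pX gen :=
      pullback.lift (X.fromSpecStalk x) (Spec.map (CommRingCat.ofHom ρK)) (by
        rw [← Spec.map_comp]
        erw [hρK]
        exact hρ.symm)
    have hL : L ≫ pullback.fst pX gen = X.fromSpecStalk x := pullback.lift_fst _ _ _
    obtain ⟨V₀, hxV₀, fV₀, hfV₀, hfV₀S⟩ := spread_out_of_isGermInjective' pX pG (L ≫ u) (by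
      rw [Category.assoc, hu, reassoc_of% hL])
    obtain ⟨N, hxN, hN⟩ := Groth.L18.Codim1.exists_nhds_subset_closure x
    let V : X.Opens := V₀ ⊓ N
    have hfV : (X.homOfLE (inf_le_left : V ≤ V₀) ≫ fV₀) ≫ pG = V.ι ≫ pX := by
      rw [Category.assoc, hfV₀S, Scheme.homOfLE_ι_assoc]
    refine ⟨V, X.homOfLE (inf_le_left : V ≤ V₀) ≫ fV₀, ⟨hxV₀, hxN⟩, hfV, fun {Z} a b hab => ?_⟩
    let E : (pullback pX gen).Opens := pullback.fst pX gen ⁻¹ᵁ V
    let e : (E : Scheme.{u}) ⟶ (V : Scheme.{u}) := pullback.fst pX gen ∣_ V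
    have he : e ≫ V.ι = E.ι ≫ pullback.fst pX gen := morphismRestrict_ι _ _
    have hEq : e ≫ X.homOfLE (inf_le_left : V ≤ V₀) ≫ fV₀ = E.ι ≫ u := by
      let t₀ : PrimeSpectrum (X.presheaf.stalk x) := ⊥
      let cL : Spec (CommRingCat.of (FractionRing (X.presheaf.stalk x))) ⟶ (E : Scheme.{u}) :=
        IsOpenImmersion.lift E.ι (Spec.map (CommRingCat.ofHom
          (algebraMap (X.presheaf.stalk x) (FractionRing (X.presheaf.stalk x)))) ≫ L) (by
          rw [Scheme.Opens.range_ι]
          rintro _ ⟨t, rfl⟩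
          show pullback.fst pX gen _ ∈ V
          rw [← Scheme.Hom.comp_apply, Category.assoc, hL, Scheme.Hom.comp_apply]
          refine Specializes.mem_open ?_ V.2 (⟨hxV₀, hxN⟩ : x ∈ V)
          have : X.fromSpecStalk x (Spec.map (CommRingCat.ofHom (algebraMap (X.presheaf.stalk x)
            (FractionRing (X.presheaf.stalk x)))) t) ∈ Set.range (X.fromSpecStalk x) := ⟨_, rfl⟩
          rwa [Scheme.range_fromSpecStalk] at this)
      have hcL : cL ≫ E.ι = Spec.map (CommRingCat.ofHom (algebraMap (X.presheaf.stalk x)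
          (FractionRing (X.presheaf.stalk x)))) ≫ L := IsOpenImmersion.lift_fac _ _ _
      haveI : IsReduced (E : Scheme.{u}) := isReduced_of_isOpenImmersion E.ι
      haveI : IsDominant cL := ⟨by
        intro d
        refine ((E.ι ≫ pullback.fst pX gen).isEmbedding.isInducing.closure_eq_preimage_closure_image _).ge ?_
        rw [Set.mem_preimage, ← Set.range_comp]
        refine Specializes.mem_closed (hN _ (d.2.2 : pullback.fst pX gen d.1 ∈ N)) isClosed_closure
          (subset_closure ⟨(⟨⊥, Ideal.isPrime_bot⟩ : PrimeSpectrum (FractionRing (X.presheaf.stalk x))), ?_⟩)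
        rw [Function.comp_apply, ← Scheme.Hom.comp_apply, ← Category.assoc, hcL, Category.assoc, hL,
          Scheme.Hom.comp_apply]
        refine congrArg _ (PrimeSpectrum.ext ?_)
        show (⊥ : Ideal (FractionRing (X.presheaf.stalk x))).comap
          (algebraMap (X.presheaf.stalk x) (FractionRing (X.presheaf.stalk x))) = ⊥
        exact (RingHom.injective_iff_ker_eq_bot _).mp (IsFractionRing.injective _ _)⟩
      refine ext_of_isDominant_of_isSeparated pG ?_ cL ?_
      · rw [Category.assoc, hfV, reassoc_of% he, Category.assoc, hu]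
      · have e1 : cL ≫ e ≫ X.homOfLE (inf_le_left : V ≤ V₀) = Spec.map (CommRingCat.ofHom
            (algebraMap (X.presheaf.stalk x) (FractionRing (X.presheaf.stalk x)))) ≫
              V₀.fromSpecStalkOfMem x hxV₀ := by
          rw [← cancel_mono V₀.ι]
          simp only [Category.assoc, Scheme.homOfLE_ι, Scheme.Opens.fromSpecStalkOfMem_ι]
          rw [he, reassoc_of% hcL, hL]
        rw [reassoc_of% e1, ← hfV₀, reassoc_of% hcL]
    let aE : Z ⟶ (E : Scheme.{u}) := IsOpenImmersion.lift E.ι b (by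
      rw [Scheme.Opens.range_ι]
      rintro _ ⟨t, rfl⟩
      show pullback.fst pX gen (b t) ∈ V
      rw [← Scheme.Hom.comp_apply, ← hab, Scheme.Hom.comp_apply]
      exact (a t).2)
    have hae : aE ≫ E.ι = b := IsOpenImmersion.lift_fac _ _ _
    have haa : aE ≫ e = a := by
      rw [← cancel_mono V.ι, Category.assoc, he, reassoc_of% hae, hab]
    rw [← haa, Category.assoc, hEq, reassoc_of% hae]
  choose V fV hwV hfV hfVu using loc
  let U : X.Opens := ⨆ w, V w
  have hle : ∀ w, V w ≤ U := fun w => le_iSup V w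
  let 𝒰 : U.toScheme.OpenCover := U.toScheme.openCoverOfIsOpenCover (fun w => U.ι ⁻¹ᵁ V w)
    (eq_top_iff.mpr fun z _ => by
      obtain ⟨w, hw⟩ := TopologicalSpace.Opens.mem_iSup.mp (show z.1 ∈ ⨆ w, V w from z.2)
      exact TopologicalSpace.Opens.mem_iSup.mpr ⟨w, hw⟩)
  let r : ∀ w, ((U.ι ⁻¹ᵁ V w : U.toScheme.Opens) : Scheme.{u}) ⟶ (V w : Scheme.{u}) := fun w =>
    U.ι ∣_ V w
  have hr : ∀ w, r w ≫ (V w).ι = (U.ι ⁻¹ᵁ V w).ι ≫ U.ι := fun w => morphismRestrict_ι _ _
  have compat : ∀ a b : ↥(pullback pX gen),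
      pullback.fst (U.ι ⁻¹ᵁ V a).ι (U.ι ⁻¹ᵁ V b).ι ≫ r a ≫ fV a =
        pullback.snd (U.ι ⁻¹ᵁ V a).ι (U.ι ⁻¹ᵁ V b).ι ≫ r b ≫ fV b := fun a b => by
    have hc : pullback.fst (U.ι ⁻¹ᵁ V a).ι (U.ι ⁻¹ᵁ V b).ι ≫ (U.ι ⁻¹ᵁ V a).ι ≫ U.ι =
        pullback.snd (U.ι ⁻¹ᵁ V a).ι (U.ι ⁻¹ᵁ V b).ι ≫ (U.ι ⁻¹ᵁ V b).ι ≫ U.ι :=
      pullback.condition_assoc _
    refine ext_generic pX pG
      (pullback.fst (U.ι ⁻¹ᵁ V a).ι (U.ι ⁻¹ᵁ V b).ι ≫ (U.ι ⁻¹ᵁ V a).ι ≫ U.ι) _ _ ?_ ?_
    · simp only [Category.assoc, hfV]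
      rw [reassoc_of% hr a, reassoc_of% hr b]
      exact pullback.condition_assoc _
    · intro Z za zb hz
      have h1 := hfVu a (za ≫ pullback.fst (U.ι ⁻¹ᵁ V a).ι (U.ι ⁻¹ᵁ V b).ι ≫ r a) zb (by
        rw [Category.assoc, Category.assoc, hr]; exact hz)
      have h2 := hfVu b (za ≫ pullback.snd (U.ι ⁻¹ᵁ V a).ι (U.ι ⁻¹ᵁ V b).ι ≫ r b) zb (by
        rw [Category.assoc, Category.assoc, hr]
        exact (congrArg (za ≫ ·) hc).symm.trans hz)
      simp only [Category.assoc] at h1 h2
      exact h1.trans h2.symm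
  let f : (U : Scheme.{u}) ⟶ G := 𝒰.glueMorphisms (fun w => r w ≫ fV w) fun a b => compat a b
  have hf : ∀ w, (U.ι ⁻¹ᵁ V w).ι ≫ f = r w ≫ fV w := fun w =>
    Scheme.Cover.ι_glueMorphisms 𝒰 (fun w => r w ≫ fV w) _ w
  refine ⟨U, f, Scheme.Cover.hom_ext 𝒰 _ _ fun w => ?_, ?_, fun {Z} a b hab => ?_⟩
  · show (U.ι ⁻¹ᵁ V w).ι ≫ f ≫ pG = (U.ι ⁻¹ᵁ V w).ι ≫ U.ι ≫ pX
    rw [← Category.assoc, hf, Category.assoc, hfV, reassoc_of% hr]
  · rintro _ ⟨w, rfl⟩
    exact hle w (hwV w)
  · let 𝒲 : Z.OpenCover := Z.openCoverOfIsOpenCover (fun w => a ⁻¹ᵁ (U.ι ⁻¹ᵁ V w))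
      (eq_top_iff.mpr fun z _ => by
        obtain ⟨w, hw⟩ := TopologicalSpace.Opens.mem_iSup.mp (show (a z).1 ∈ ⨆ w, V w from (a z).2)
        exact TopologicalSpace.Opens.mem_iSup.mpr ⟨w, hw⟩)
    refine Scheme.Cover.hom_ext 𝒲 _ _ fun w => ?_
    show (a ⁻¹ᵁ (U.ι ⁻¹ᵁ V w)).ι ≫ a ≫ f = (a ⁻¹ᵁ (U.ι ⁻¹ᵁ V w)).ι ≫ b ≫ u
    rw [← Category.assoc, ← morphismRestrict_ι, Category.assoc, hf, ← Category.assoc _ b u,
      ← Category.assoc]
    refine hfVu w _ _ ?_
    rw [Category.assoc, hr, morphismRestrict_ι_assoc, Category.assoc, hab]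

theorem mem_of_dim_le_one_fibrewiseDense [IsDedekindDomain R] [Smooth pX] (V : X.Opens)
    (hV : ∀ y : X, ringKrullDim (X.presheaf.stalk y) ≤ 1 → y ∈ V) : FibrewiseDense pX V := by
  haveI : IsLocallyNoetherian X := LocallyOfFiniteType.isLocallyNoetherian pX
  intro x
  let s := pX x
  let F := pX.fiber s
  let x' : F := pX.asFiber x
  obtain ⟨η', hη'⟩ := QuasiSober.sober (isIrreducible_irreducibleComponent (x := x'))
    (isClosed_irreducibleComponent (x := x'))
  let y : X := pX.fiberι s η'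
  have hyx : y ⤳ x := by
    have := (hη'.specializes (mem_irreducibleComponent (x := x'))).map (pX.fiberι s).continuous
    rwa [show pX.fiberι s x' = x from pX.fiberι_asFiber x] at this
  have hys : pX y = s := by
    have : y ∈ Set.range (pX.fiberι s) := ⟨η', rfl⟩
    rwa [Scheme.Hom.range_fiberι] at this
  have hmax : ∀ w : X, w ⤳ y → pX w = s → w = y := by
    intro w hw hws
    obtain ⟨w', rfl⟩ : w ∈ Set.range (pX.fiberι s) := by
      rw [Scheme.Hom.range_fiberι]; exact hws
    have hw' : w' ⤳ η' := (pX.fiberι s).isEmbedding.isInducing.specializes_iff.mp hw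
    have heq : closure {w'} = irreducibleComponent x' :=
      (irreducibleComponent_property x').2.2 _ isIrreducible_singleton.closure.isPreirreducible
        (hη'.def.ge.trans hw'.closure_subset)
    have : IsGenericPoint w' (irreducibleComponent x') := heq
    rw [this.eq hη']
  have hyV : y ∈ V := hV y ?_
  · exact hyx.mem_closed isClosed_closure (subset_closure ⟨hyV, hys⟩)
  haveI : IsRegularLocalRing (X.presheaf.stalk y) := regular_stalk pX y
  let p := (pX y).asIdeal
  let φ : R →+* X.presheaf.stalk y :=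
    (Spec.preimage (X.fromSpecStalk y ≫ pX)).hom
  have hφ : Spec.map (CommRingCat.ofHom φ) = X.fromSpecStalk y ≫ pX := by
    rw [CommRingCat.ofHom_hom, Spec.map_preimage]
  have hcomap : ∀ P : PrimeSpectrum (X.presheaf.stalk y),
      P.asIdeal.comap φ = (pX (X.fromSpecStalk y P)).asIdeal := fun P => by
    rw [← Scheme.Hom.comp_apply, ← hφ]
    rfl
  have hunit : ∀ r, r ∉ p → IsUnit (φ r) := fun r hr => by
    by_contra hn
    refine hr ?_
    have hm : r ∈ (IsLocalRing.closedPoint (X.presheaf.stalk y)).asIdeal.comap φ :=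
      (IsLocalRing.mem_maximalIdeal (φ r)).mpr hn
    rwa [hcomap, Scheme.fromSpecStalk_closedPoint] at hm
  let ψ : Localization.AtPrime p →+* X.presheaf.stalk y :=
    IsLocalization.lift (M := p.primeCompl) (g := φ) fun r => hunit r r.2
  obtain ⟨π, hπ⟩ : ∃ π : Localization.AtPrime p,
      Ideal.span {π} = IsLocalRing.maximalIdeal (Localization.AtPrime p) := by
    by_cases hp : p = ⊥
    · refine ⟨0, ?_⟩
      have hm : p.map (algebraMap R (Localization.AtPrime p)) = ⊥ :=
        (congrArg (Ideal.map _) hp).trans Ideal.map_bot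
      rw [← IsLocalization.AtPrime.map_eq_maximalIdeal p (Localization.AtPrime p), hm]
      simp
    · haveI := IsLocalization.AtPrime.isDiscreteValuationRing_of_dedekind_domain R hp
        (Localization.AtPrime p)
      obtain ⟨π, hπ⟩ := (inferInstance :
        (IsLocalRing.maximalIdeal (Localization.AtPrime p)).IsPrincipal).principal
      exact ⟨π, hπ.symm⟩
  have hmin : IsLocalRing.maximalIdeal (X.presheaf.stalk y) ∈ (Ideal.span {ψ π}).minimalPrimes := by
    have hle : ∀ P : PrimeSpectrum (X.presheaf.stalk y), ψ π ∈ P.asIdeal → P = IsLocalRing.closedPoint _ := by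
      intro P hP
      apply (X.fromSpecStalk y).isEmbedding.injective
      rw [Scheme.fromSpecStalk_closedPoint]
      have hPy : X.fromSpecStalk y P ⤳ y := by
        have : X.fromSpecStalk y P ∈ Set.range (X.fromSpecStalk y) := ⟨P, rfl⟩
        rwa [Scheme.range_fromSpecStalk] at this
      refine hmax _ hPy (PrimeSpectrum.ext (le_antisymm ?_ ?_))
      · rw [← hys]
        exact (PrimeSpectrum.le_iff_specializes _ _).mpr (hPy.map pX.continuous)
      · rw [← hys, ← hcomap]
        intro r hr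
        have hr' : algebraMap R (Localization.AtPrime p) r ∈ Ideal.span {π} := by
          rw [hπ, ← IsLocalization.AtPrime.map_eq_maximalIdeal p (Localization.AtPrime p)]
          exact Ideal.mem_map_of_mem _ hr
        obtain ⟨c, hc⟩ := Ideal.mem_span_singleton'.mp hr'
        rw [Ideal.mem_comap, ← IsLocalization.lift_eq (M := p.primeCompl) (S := Localization.AtPrime p) (g := φ)
          (fun r => hunit r r.2) r, ← hc, map_mul]
        exact P.asIdeal.mul_mem_left _ hP
    refine ⟨⟨inferInstance, ?_⟩, fun P hP hPle => ?_⟩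
    · rw [Ideal.span_le, Set.singleton_subset_iff]
      intro hu
      have hπm : π ∈ IsLocalRing.maximalIdeal (Localization.AtPrime p) :=
        hπ ▸ Ideal.mem_span_singleton_self π
      rw [← IsLocalization.AtPrime.map_eq_maximalIdeal p (Localization.AtPrime p)] at hπm
      have : ψ π ∈ IsLocalRing.maximalIdeal (X.presheaf.stalk y) := by
        have hmap : (p.map (algebraMap R (Localization.AtPrime p))).map ψ ≤
            IsLocalRing.maximalIdeal (X.presheaf.stalk y) := by
          rw [Ideal.map_map, IsLocalization.lift_comp, Ideal.map_le_iff_le_comap]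
          intro r hr
          show r ∈ (IsLocalRing.closedPoint (X.presheaf.stalk y)).asIdeal.comap φ
          rw [hcomap, Scheme.fromSpecStalk_closedPoint]
          exact hr
        exact hmap (Ideal.mem_map_of_mem _ hπm)
      exact this hu
    · have := hle ⟨P, hP.1⟩ (hP.2 (Ideal.mem_span_singleton_self _))
      exact (congrArg PrimeSpectrum.asIdeal this).ge
  rw [← IsLocalRing.maximalIdeal_height_eq_ringKrullDim]
  exact_mod_cast Ideal.height_le_one_of_isPrincipal_of_mem_minimalPrimes _ _ hmin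

/-- Morphisms from the generic fibre of a smooth scheme into a proper group scheme extend uniquely. -/
theorem existsUnique_of_generic [IsDedekindDomain R] [Smooth pX] {G : Scheme.{u}}
    (pG : G ⟶ Spec (CommRingCat.of R)) [GrpObj (Over.mk pG)] [IsProper pG]
    (u : pullback pX gen ⟶ G) (hu : u ≫ pG = pullback.fst pX gen ≫ pX) :
    ∃! g : X ⟶ G, g ≫ pG = pX ∧ pullback.fst pX gen ≫ g = u := by
  haveI : IsReduced X := isReduced_of_regular_stalks (regular_stalk pX)
  haveI : IsReduced (pullback pX gen) := Groth.L23.isReduced_of_smooth (pullback.snd pX gen)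
  obtain ⟨U, f, hf, hgen, hfu⟩ := exists_spread pX pG
    (fun x => by haveI := regular_stalk pX x; exact Groth.L01.isDomain_of_regular _) u hu
  have hU : Dense (U : Set X) := (dense_range_fst pX).mono hgen
  obtain ⟨V, hUV, g, hg, hgf, hV⟩ := exists_extension_proper hU f hf
  obtain ⟨F, ⟨hF1, hF2⟩, -⟩ :=
    existsUnique_of_proper (mem_of_dim_le_one_fibrewiseDense pX V hV) g hg
  have hFu : pullback.fst pX gen ≫ F = u := by
    let a : pullback pX gen ⟶ (U : Scheme.{u}) :=
      IsOpenImmersion.lift U.ι (pullback.fst pX gen) (by rw [Scheme.Opens.range_ι]; exact hgen)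
    have ha : a ≫ U.ι = pullback.fst pX gen := IsOpenImmersion.lift_fac _ _ _
    rw [← ha, Category.assoc, ← Scheme.homOfLE_ι_assoc X hUV, hF2, hgf]
    exact (hfu a (𝟙 _) (by rw [ha, Category.id_comp])).trans (Category.id_comp u)
  refine ⟨F, ⟨hF1, hFu⟩, fun F' hF' => ?_⟩
  refine ext_generic pX pG (𝟙 X) F' F (hF'.1.trans hF1.symm) fun {Z} a b hab => ?_
  rw [Category.comp_id] at hab
  rw [hab, Category.assoc, Category.assoc, hF'.2, hFu]

end Groth.L26.Weil
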